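import Cfsg.Agent.Lib.PNil.Min
import Cfsg.Agent.Lib.Coprime.Generation
import Cfsg.Agent.Lib.FTCons.AutSylow
import Cfsg.Agent.Lib.Invol.Embedded
import Cfsg.Agent.Lib.Invol.SylowTools
import Cfsg.Agent.Lib.Sig.LocalBalance
import Cfsg.Agent.S0205
import Cfsg.Agent.S0217

/-!
# An elementary abelian subgroup whose normalizer covers the involution centralizers

Let `A` be elementary abelian of order at least eight with normalizer `N`, let `N` contain a Sylow
2-subgroup in which `A` is strongly closed, and let `N` cover the centralizer of every involution of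
`A` modulo its odd core. If moreover the centralizer of every involution `y` of `N` is covered by its
odd core and the centralizer of some involution of `A` commuting with `y`, and the group has two
classes of involutions, then `N` covers the group modulo its odd core: the odd cores of the
centralizers of the involutions of `A` generate an odd signalizer `W`, and a proper `W N` would be
strongly embedded.
-/

set_option autoImplicit false
set_option linter.style.haveILetI false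

namespace Cfsg.Lib.EightThree

open Subgroup Cfsg.Lib

universe u

variable {G : Type u} [Group G]

/-- The elements written as an element of `O` times an element of `N`. -/
def Covers (O N : Subgroup G) (g : G) : Prop := ∃ o ∈ O, ∃ n ∈ N, g = o * n

theorem commute_of_sq {A : Subgroup G} (hA : ∀ a ∈ A, a * a = 1) {a b : G} (ha : a ∈ A) (hb : b ∈ A) :
    Commute a b := by
  have h := hA _ (mul_mem ha hb)
  have e1 : a * b = (a * b)⁻¹ := eq_inv_of_mul_eq_one_right h
  rw [mul_inv_rev, inv_eq_of_mul_eq_one_right (hA b hb), inv_eq_of_mul_eq_one_right (hA a ha)] at e1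
  exact e1

theorem orderOf_eq_two {A : Subgroup G} (hA : ∀ a ∈ A, a * a = 1) {a : G} (ha : a ∈ A) (h1 : a ≠ 1) :
    orderOf a = 2 := Invol.orderOf_eq_two_of h1 (hA a ha)

theorem mem_centralizer_of_commute {a x : G} (h : Commute x a) :
    x ∈ centralizer ({a} : Set G) := mem_centralizer_singleton_iff.2 h.eq

theorem commute_of_mem_centralizer {a x : G} (h : x ∈ centralizer ({a} : Set G)) : Commute x a :=
  mem_centralizer_singleton_iff.1 h

theorem isPGroup_of_sq {A : Subgroup G} (hA : ∀ a ∈ A, a * a = 1) : IsPGroup 2 A := fun a =>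
  ⟨1, Subtype.ext (by rw [pow_one, pow_two]; exact hA a a.2)⟩

theorem conj_mem_coreOf [Finite G] (g : G) {a x : G}
    (hx : x ∈ PNil.coreOf (centralizer ({a} : Set G))) :
    g * x * g⁻¹ ∈ PNil.coreOf (centralizer ({g * a * g⁻¹} : Set G)) := by
  set f := (MulAut.conj g).toMonoidHom with hf
  set C := centralizer ({a} : Set G)
  set C' := centralizer ({g * a * g⁻¹} : Set G)
  refine PNil.le_coreOf (N := (PNil.coreOf C).map f) ?_ ?_ ?_ ⟨x, hx, rfl⟩
  · rintro _ ⟨y, hy, rfl⟩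
    have h := commute_of_mem_centralizer (PNil.coreOf_le C hy)
    exact mem_centralizer_of_commute (h.map f)
  · intro c hc
    have hc0 : g⁻¹ * c * g ∈ C := mem_centralizer_of_commute (by
      have h := (commute_of_mem_centralizer hc).map (MulAut.conj g⁻¹).toMonoidHom
      simpa [mul_assoc] using h)
    have h1 := le_normalizer_map f ⟨_, PNil.le_normalizer_coreOf C hc0, rfl⟩
    simpa [hf, mul_assoc] using h1
  · rw [card_map_of_injective (f := f) (MulAut.conj g).injective]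
    exact PNil.coreOf_odd C

/-- A four-group acting on an odd order group generates it by the centralizers of its involutions. -/
theorem le_iSup_of_four [Finite G] {E R : Subgroup G} (hE : ∀ e ∈ E, e * e = 1)
    (hE4 : 4 ≤ Nat.card E) (hn : E ≤ normalizer (R : Set G)) (hR : Odd (Nat.card R)) :
    R ≤ ⨆ e : {e : G // e ∈ E ∧ e ≠ 1}, R ⊓ centralizer ({(e : G)} : Set G) := by
  haveI : Fact (Nat.Prime 2) := ⟨Nat.prime_two⟩
  haveI : IsMulCommutative E := ⟨⟨fun a b => Subtype.ext (commute_of_sq hE a.2 b.2).eq⟩⟩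
  refine Cfsg.Lib.Coprime.le_iSup_centralizer_of_not_isCyclic (fun hc => ?_) hn ?_
  · obtain ⟨g, hg⟩ := hc.exists_generator
    have h1 : orderOf g = Nat.card E := orderOf_eq_card_of_forall_mem_zpowers hg
    have h2 : orderOf g ≤ 2 := orderOf_le_of_pow_eq_one (by norm_num) (Subtype.ext (by
      rw [coe_pow, pow_two, OneMemClass.coe_one]; exact hE g g.2))
    omega
  · obtain ⟨j, hj⟩ := IsPGroup.iff_card.1 (isPGroup_of_sq hE)
    rw [hj]
    exact Nat.Coprime.pow_left j hR.coprime_two_left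

/-- A proper subgroup containing a Sylow 2-subgroup, its normalizer and the centralizers of all its
involutions is strongly embedded. -/
theorem stronglyEmbedded_of_centralizers [Finite G] {M : Subgroup G} (hM : M ≠ ⊤) (S : Sylow 2 G)
    (hSM : (S : Subgroup G) ≤ M) (hNS : normalizer ((S : Subgroup G) : Set G) ≤ M)
    (heven : Even (Nat.card M))
    (hC : ∀ t ∈ M, orderOf t = 2 → centralizer ({t} : Set G) ≤ M) :
    Cfsg.IsStronglyEmbedded M := by
  haveI : Fact (Nat.Prime 2) := ⟨Nat.prime_two⟩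
  have hmove : ∀ (V : Subgroup G), V ≤ M → IsPGroup 2 V →
      ∃ m ∈ M, ∀ v ∈ V, m * v * m⁻¹ ∈ (S : Subgroup G) := by
    intro V hVM hV
    obtain ⟨m, hm⟩ := Invol.exists_conj_mem_sylow (S.subtype hSM)
      (hV.of_equiv (subgroupOfEquivOfLe hVM).symm)
    exact ⟨m, m.2, fun v hv => hm ⟨v, hVM hv⟩ hv⟩
  rw [Invol.stronglyEmbedded_iff hM heven]
  intro t ht ht2 g hg
  haveI hSnt : Nontrivial ↥(S : Subgroup G) := by
    obtain ⟨t', ht', ht'2⟩ := Invol.exists_involution_of_even heven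
    obtain ⟨m, -, hm⟩ := hmove (zpowers t') (zpowers_le.2 ht')
      (IsPGroup.of_card (n := 1) (by rw [Nat.card_zpowers, ht'2, pow_one]))
    exact (nontrivial_iff_ne_bot _).2 fun e => Invol.ne_one ht'2 (conj_eq_one_iff.1
      (mem_bot.1 (e.le (hm t' (mem_zpowers t')))))
  obtain ⟨m₁, hm₁, hm₁t⟩ := hmove (zpowers t) (zpowers_le.2 ht)
    (IsPGroup.of_card (n := 1) (by rw [Nat.card_zpowers, ht2, pow_one]))
  set t₁ := m₁ * t * m₁⁻¹
  have ht₁S : t₁ ∈ (S : Subgroup G) := hm₁t t (mem_zpowers t)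
  have ht₁2 : orderOf t₁ = 2 := by rw [Invol.orderOf_conj_eq, ht2]
  obtain ⟨z, -, hz2, hzc⟩ := FTCons.exists_central_involution S.isPGroup'
    (N := (⊤ : Subgroup ↥(S : Subgroup G))) top_ne_bot
  set z' : G := ((z : ↥(S : Subgroup G)) : G) with hz'
  have hzt : Commute z' t₁ := (congrArg Subtype.val (hzc ⟨t₁, ht₁S⟩)).symm
  set k := g * m₁⁻¹
  have hk : k * t₁ * k⁻¹ = g * t * g⁻¹ := by simp only [k, t₁]; group
  -- `k` carries `z'` into `M`
  have hkz : k * z' * k⁻¹ ∈ M := by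
    refine hC _ hg (by rw [Invol.orderOf_conj_eq, ht2]) (mem_centralizer_of_commute ?_)
    rw [← hk]
    exact hzt.map (MulAut.conj k).toMonoidHom
  have hkS : ∀ s ∈ (S : Subgroup G), k * s * k⁻¹ ∈ M := fun s hs =>
    hC _ hkz (by rw [Invol.orderOf_conj_eq, hz', orderOf_coe, hz2]) (mem_centralizer_of_commute
      (Commute.map (congrArg Subtype.val (hzc ⟨s, hs⟩) : Commute s z')
        (MulAut.conj k).toMonoidHom))
  obtain ⟨m₂, hm₂, hm₂S⟩ := hmove ((S : Subgroup G).map (MulAut.conj k).toMonoidHom)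
    (by rintro _ ⟨s, hs, rfl⟩; exact hkS s hs) (S.isPGroup'.map _)
  have hn : m₂ * k ∈ normalizer ((S : Subgroup G) : Set G) := by
    refine mem_normalizer_fintype fun s hs => ?_
    have := hm₂S _ ⟨s, hs, rfl⟩
    rwa [show m₂ * k * s * (m₂ * k)⁻¹ = m₂ * (k * s * k⁻¹) * m₂⁻¹ by group]
  have := mul_mem (mul_mem (inv_mem hm₂) (hNS hn)) hm₁
  rwa [show m₂⁻¹ * (m₂ * k) * m₁ = g by simp only [k]; group] at this

/-- The hypotheses of the covering theorem. -/
structure Conf (A N : Subgroup G) : Prop where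
  sq : ∀ a ∈ A, a * a = 1
  card : 8 ≤ Nat.card A
  le : A ≤ N
  norm : N ≤ normalizer (A : Set G)
  selfNorm : normalizer (A : Set G) ≤ N
  sylow : ∃ S : Sylow 2 G, (S : Subgroup G) ≤ N ∧ A ≤ S
  closed : ∀ a ∈ A, ∀ g : G, g * a * g⁻¹ ∈ N → g * a * g⁻¹ ∈ A
  cent : ∀ a ∈ A, a ≠ 1 → ∀ g ∈ centralizer ({a} : Set G),
    Covers (PNil.coreOf (centralizer ({a} : Set G))) N g
  centA : ∀ c ∈ centralizer (A : Set G), Odd (orderOf c) → c ∈ PNil.coreOf N
  invol : ∀ y ∈ N, orderOf y = 2 → ∃ a ∈ A, a ≠ 1 ∧ Commute a y ∧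
    (∃ E : Subgroup G, E ≤ A ∧ 4 ≤ Nat.card E ∧ ∀ e ∈ E, Commute e y) ∧
    ∀ g ∈ centralizer ({y} : Set G),
      Covers (PNil.coreOf (centralizer ({y} : Set G))) (centralizer ({a} : Set G)) g
  classes : ∃ x y : G, orderOf x = 2 ∧ orderOf y = 2 ∧ ¬ IsConj x y

namespace Conf

variable [Finite G] {A N : Subgroup G} (h : Conf A N)
include h

/-- Balance holds automatically. -/
theorem balance {a b x : G} (ha : a ∈ A) (hb : b ∈ A) (hb1 : b ≠ 1)
    (hx : x ∈ PNil.coreOf (centralizer ({a} : Set G))) (hxb : Commute x b) :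
    x ∈ PNil.coreOf (centralizer ({b} : Set G)) := by
  set C := centralizer ({b} : Set G)
  set O := PNil.coreOf C
  set Oa := PNil.coreOf (centralizer ({a} : Set G))
  have hxC : x ∈ C := mem_centralizer_of_commute hxb
  have hAC : ∀ c ∈ A, c ∈ C := fun c hc => mem_centralizer_of_commute (commute_of_sq h.sq hc hb)
  obtain ⟨o, ho, n, hn, e⟩ := h.cent b hb hb1 x hxC
  have hoC : o ∈ C := PNil.coreOf_le C ho
  have hn' : n = o⁻¹ * x := by rw [e, inv_mul_cancel_left]
  have hnC : n ∈ C := hn' ▸ mul_mem (inv_mem hoC) hxC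
  have hOn : ∀ c ∈ C, ∀ y ∈ O, c * y * c⁻¹ ∈ O := fun c hc y hy =>
    (mem_normalizer_iff.1 (PNil.le_normalizer_coreOf C hc) y).1 hy
  obtain ⟨q, hqs, hq⟩ : ∃ q : C →* ↥C ⧸ Cfsg.oddCore ↥C, Function.Surjective q ∧
      ∀ (y : G) (hy : y ∈ C), q ⟨y, hy⟩ = 1 ↔ y ∈ O := by
    refine ⟨QuotientGroup.mk' _, QuotientGroup.mk'_surjective _, fun y hy => ?_⟩
    refine (QuotientGroup.eq_one_iff _).trans ⟨fun hm => PNil.mem_coreOf hy hm, ?_⟩
    rintro ⟨w, hw, rfl⟩
    exact hw
  have hqx : q ⟨x, hxC⟩ = q ⟨n, hnC⟩ := by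
    rw [show (⟨x, hxC⟩ : C) = ⟨o, hoC⟩ * ⟨n, hnC⟩ from Subtype.ext e, map_mul, (hq o hoC).2 ho,
      one_mul]
  -- `n` centralizes `A`
  have hnA : n ∈ centralizer (A : Set G) := by
    refine mem_centralizer_iff.2 fun α hα => ?_
    have hα' : α ∈ A := hα
    set c := n * α * n⁻¹ * α⁻¹
    have hc : c ∈ A := mul_mem ((mem_normalizer_iff.1 (h.norm hn) α).1 hα') (inv_mem hα')
    set r := x * α * x⁻¹ * α⁻¹
    have hr : r ∈ Oa := by
      have hαn : α ∈ normalizer (Oa : Set G) :=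
        PNil.le_normalizer_coreOf _ (mem_centralizer_of_commute (commute_of_sq h.sq hα' ha))
      rw [show r = x * (α * x⁻¹ * α⁻¹) by simp only [r]; group]
      exact mul_mem hx ((mem_normalizer_iff.1 hαn _).1 (inv_mem hx))
    have hrC : r ∈ C := mul_mem (mul_mem (mul_mem hxC (hAC α hα')) (inv_mem hxC)) (inv_mem (hAC α hα'))
    have hqr : q ⟨r, hrC⟩ = q ⟨c, hAC c hc⟩ := by
      rw [show (⟨r, hrC⟩ : C) = ⟨x, hxC⟩ * ⟨α, hAC α hα'⟩ * ⟨x, hxC⟩⁻¹ * ⟨α, hAC α hα'⟩⁻¹ from rfl,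
        show (⟨c, hAC c hc⟩ : C) = ⟨n, hnC⟩ * ⟨α, hAC α hα'⟩ * ⟨n, hnC⟩⁻¹ * ⟨α, hAC α hα'⟩⁻¹ from rfl]
      simp only [map_mul, map_inv, hqx]
    have hco : c ∈ O := by
      rw [← hq c (hAC c hc), ← hqr, ← orderOf_eq_one_iff]
      have h1 : Odd (orderOf (q ⟨r, hrC⟩)) := by
        refine Odd.of_dvd_nat ((PNil.coreOf_odd _).of_dvd_nat (Subgroup.orderOf_dvd_natCard Oa hr)) ?_
        exact (orderOf_map_dvd q _).trans (by rw [orderOf_mk])
      have h2 : orderOf (q ⟨r, hrC⟩) ∣ 2 := by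
        rw [hqr]
        refine orderOf_dvd_of_pow_eq_one ?_
        rw [← map_pow]
        exact (congrArg q (Subtype.ext (show c ^ 2 = 1 by rw [pow_two]; exact h.sq c hc))).trans
          (map_one q)
      exact Nat.eq_one_of_dvd_coprimes (Nat.coprime_two_left.2 h1).symm dvd_rfl h2
    have hc1 : c = 1 := by
      by_contra hne
      have h1 := (PNil.coreOf_odd C).of_dvd_nat (Subgroup.orderOf_dvd_natCard O hco)
      rw [orderOf_eq_two h.sq hc hne] at h1
      exact absurd h1 (by decide)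
    have h3 : n * α * n⁻¹ = α := mul_inv_eq_one.1 hc1
    exact (mul_inv_eq_iff_eq_mul.1 h3).symm
  -- `n` lies in `O`
  obtain ⟨k, l, hl, hkl⟩ := Nat.exists_eq_two_pow_mul_odd (orderOf_pos n).ne'
  have h1 : q ⟨n, hnC⟩ ^ (2 ^ k) = 1 := by
    rw [← map_pow]
    refine (hq _ _).2 ?_
    show n ^ (2 ^ k) ∈ O
    have hodd : Odd (orderOf (n ^ (2 ^ k))) := by
      rw [orderOf_pow_of_dvd (by positivity) ⟨l, hkl⟩, hkl, Nat.mul_div_cancel_left _ (by positivity)]
      exact hl
    have hK : n ^ (2 ^ k) ∈ PNil.coreOf N := h.centA _ (pow_mem hnA _) hodd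
    have hnC' : n ^ (2 ^ k) ∈ C := pow_mem hnC _
    set K := (PNil.coreOf N).subgroupOf C
    haveI hKq : (K.map q).Normal := by
      refine ⟨?_⟩
      rintro _ ⟨w, hw, rfl⟩ u
      obtain ⟨⟨g, hg⟩, rfl⟩ := hqs u
      obtain ⟨o', ho', n', hn', rfl⟩ := h.cent b hb hb1 g hg
      have hn'C : n' ∈ C := by
        have := mul_mem (inv_mem (PNil.coreOf_le C ho')) hg
        rwa [inv_mul_cancel_left] at this
      refine ⟨⟨n', hn'C⟩ * w * ⟨n', hn'C⟩⁻¹,
        (mem_normalizer_iff.1 (PNil.le_normalizer_coreOf N hn') (w : G)).1 hw, ?_⟩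
      have e1 : q ⟨o' * n', hg⟩ = q ⟨n', hn'C⟩ :=
        (map_mul q ⟨o', PNil.coreOf_le C ho'⟩ ⟨n', hn'C⟩).trans
          (by rw [(hq o' (PNil.coreOf_le C ho')).2 ho', one_mul])
      show q (⟨n', hn'C⟩ * w * ⟨n', hn'C⟩⁻¹) = q ⟨o' * n', hg⟩ * q w * (q ⟨o' * n', hg⟩)⁻¹
      rw [e1, map_mul, map_mul, map_inv]
    have hKodd : Odd (Nat.card (K.map q)) := by
      refine Odd.of_dvd_nat ?_ (card_map_dvd K q)
      rw [← card_map_of_injective (f := C.subtype) C.subtype_injective, subgroupOf_map_subtype]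
      exact (PNil.coreOf_odd N).of_dvd_nat (card_dvd_of_le inf_le_left)
    have hbot : Cfsg.oddCore (↥C ⧸ Cfsg.oddCore ↥C) = ⊥ :=
      Core.pPrimeCore_quotient_eq_bot (p := 2) (G := ↥C)
    have := (hbot.le (ZStar.le_oddCore hKq hKodd ⟨⟨_, hnC'⟩, hK, rfl⟩))
    exact (hq _ hnC').1 (mem_bot.1 this)
  have h2 : Odd (orderOf (q ⟨n, hnC⟩)) := by
    rw [← hqx]
    refine ((PNil.coreOf_odd _).of_dvd_nat (Subgroup.orderOf_dvd_natCard Oa hx)).of_dvd_nat ?_
    exact (orderOf_map_dvd q _).trans (by rw [orderOf_mk])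
  have h3 : q ⟨n, hnC⟩ = 1 := orderOf_eq_one_iff.1 (Nat.eq_one_of_dvd_coprimes
    ((Nat.coprime_two_left.2 h2).pow_left k).symm dvd_rfl (orderOf_dvd_of_pow_eq_one h1))
  rw [← hq x hxC, hqx, h3]

/-- The normalizer covers the group modulo the odd core. -/
theorem covers (g : G) : Covers (Cfsg.oddCore G) N g := by
  haveI : Fact (Nat.Prime 2) := ⟨Nat.prime_two⟩
  obtain ⟨S, hSN, hAS⟩ := h.sylow
  set θ : G → Subgroup G := fun a => PNil.coreOf (centralizer ({a} : Set G)) with hθ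
  have hW := Cfsg.Agent.S0217.result (p := 2) A
    (fun a ha b hb => (commute_of_sq h.sq ha hb).eq)
    (fun a ha => by rw [pow_two]; exact h.sq a ha) (by norm_num; exact h.card) θ
    (fun a _ _ => PNil.coreOf_le _)
    (fun a _ _ hd => Nat.not_even_iff_odd.2 (PNil.coreOf_odd _) (even_iff_two_dvd.2 hd))
    (fun a ha _ b hb x hx => (mem_normalizer_iff.1 (PNil.le_normalizer_coreOf _
      (mem_centralizer_of_commute (commute_of_sq h.sq hb ha))) x).1 hx)
    (fun a _ _ => Cfsg.Agent.S0205.result (PNil.coreOf_odd _))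
    (fun a ha _ b hb hb1 x hx => h.balance ha hb hb1 hx.1 (commute_of_mem_centralizer hx.2))
  set W := ⨆ a : {a : G // a ∈ A ∧ a ≠ 1}, θ a
  have hWodd : Odd (Nat.card W) := Nat.not_even_iff_odd.1 fun he => hW.1 (even_iff_two_dvd.1 he)
  have hθW : ∀ a ∈ A, a ≠ 1 → θ a ≤ W := fun a ha h1 =>
    le_iSup (fun a : {a : G // a ∈ A ∧ a ≠ 1} => θ a) ⟨a, ha, h1⟩
  have hNW : N ≤ normalizer (W : Set G) := by
    intro n hn
    refine mem_normalizer_fintype fun x hx => ?_
    have key : W.map (MulAut.conj n).toMonoidHom ≤ W := by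
      rw [Subgroup.map_iSup]
      refine iSup_le fun a => ?_
      rintro _ ⟨y, hy, rfl⟩
      exact hθW _ ((mem_normalizer_iff.1 (h.norm hn) _).1 a.2.1)
        (fun e => a.2.2 (conj_eq_one_iff.1 e)) (conj_mem_coreOf n hy)
    exact key ⟨x, hx, rfl⟩
  set M := W ⊔ N
  have hCa : ∀ a ∈ A, a ≠ 1 → centralizer ({a} : Set G) ≤ M := by
    intro a ha ha1 x hx
    obtain ⟨o, ho, n, hn, rfl⟩ := h.cent a ha ha1 x hx
    exact mul_mem (mem_sup_left (hθW a ha ha1 ho)) (mem_sup_right hn)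
  have hCy : ∀ y ∈ N, orderOf y = 2 → centralizer ({y} : Set G) ≤ M := by
    intro y hy hy2
    obtain ⟨a, ha, ha1, -, ⟨E, hEA, hE4, hEy⟩, hcov⟩ := h.invol y hy hy2
    intro x hx
    obtain ⟨o, ho, c, hc, rfl⟩ := hcov x hx
    refine mul_mem ((le_iSup_of_four (fun e he => h.sq e (hEA he)) hE4 ?_ (PNil.coreOf_odd _)).trans
      (iSup_le fun e => ?_) ho) (hCa a ha ha1 hc)
    · exact fun e he => PNil.le_normalizer_coreOf _ (mem_centralizer_of_commute (hEy e he))
    · exact fun w hw => hCa e (hEA e.2.1) e.2.2 hw.2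
  have hSM : (S : Subgroup G) ≤ M := hSN.trans le_sup_right
  by_cases hM : M = ⊤
  · haveI : W.Normal := normalizer_eq_top_iff.1 (top_unique (hM.ge.trans (sup_le le_normalizer hNW)))
    obtain ⟨o, ho, n, hn, e⟩ := mem_sup_of_normal_left.1 (hM.ge (mem_top g))
    exact ⟨o, ZStar.le_oddCore inferInstance hWodd ho, n, hn, e.symm⟩
  · exfalso
    have hmove : ∀ t ∈ M, orderOf t = 2 → ∃ m ∈ M, m * t * m⁻¹ ∈ N := by
      intro t ht ht2
      obtain ⟨m, hm⟩ := Invol.exists_conj_mem_sylow (S.subtype hSM)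
        (IsPGroup.of_card (n := 1) (by rw [Nat.card_zpowers, orderOf_mk, ht2, pow_one]) :
          IsPGroup 2 ↥(zpowers (⟨t, ht⟩ : M)))
      exact ⟨m, m.2, hSN (hm _ (mem_zpowers _))⟩
    have hCM : ∀ t ∈ M, orderOf t = 2 → centralizer ({t} : Set G) ≤ M := by
      intro t ht ht2 x hx
      obtain ⟨m, hm, hmt⟩ := hmove t ht ht2
      have h1 : m * x * m⁻¹ ∈ M := hCy _ hmt (by rw [Invol.orderOf_conj_eq, ht2])
        (mem_centralizer_of_commute ((commute_of_mem_centralizer hx).map (MulAut.conj m).toMonoidHom))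
      have := mul_mem (mul_mem (inv_mem hm) h1) hm
      rwa [show m⁻¹ * (m * x * m⁻¹) * m = x by group] at this
    have heven : Even (Nat.card M) := by
      obtain ⟨a, ha⟩ : ∃ a : A, a ≠ 1 := by
        haveI : Nontrivial A := Finite.one_lt_card_iff_nontrivial.1 (by have := h.card; omega)
        exact exists_ne 1
      rw [even_iff_two_dvd, ← orderOf_eq_two h.sq a.2 (fun e => ha (Subtype.ext e))]
      exact Subgroup.orderOf_dvd_natCard M (hSM (hAS a.2))
    have hNS : normalizer ((S : Subgroup G) : Set G) ≤ M := fun k hk =>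
      mem_sup_right (h.selfNorm (mem_normalizer_fintype fun a ha =>
        h.closed a ha k (hSN ((mem_normalizer_iff.1 hk a).1 (hAS ha)))))
    obtain ⟨x, y, hx, hy, hxy⟩ := h.classes
    exact hxy (Invol.se_isConj (stronglyEmbedded_of_centralizers hM S hSM hNS heven hCM) hx hy)

end Conf

end Cfsg.Lib.EightThree
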