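import Cfsg.Agent.Lib.EightThree.Last
import Cfsg.Agent.Lib.ZStar.Main

/-!
# The covering of all centralizers of involutions

An involution `v i * v j` has `v i` isolated in its centralizer modulo itself, and an involution
outside `A` has the fixed involution among the five isolated in its centralizer; Glauberman's theorem
reduces both to the centralizers of the five involutions, so the covering theorem applies to `G`.
-/

set_option autoImplicit false
set_option linter.style.haveILetI false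

namespace Cfsg.Lib.EightThree

open Subgroup Cfsg.Lib

universe u

variable {G : Type u} [Group G]

theorem mem_zpowers_two {a x : G} (h : a * a = 1) : x ∈ zpowers a ↔ x = 1 ∨ x = a := by
  constructor
  · rintro ⟨k, rfl⟩
    have h2 : a ^ (2 : ℤ) = 1 := by rw [zpow_two, h]
    show a ^ k = 1 ∨ a ^ k = a
    rcases Int.even_or_odd' k with ⟨m, rfl | rfl⟩
    · exact Or.inl (by rw [zpow_mul, h2, one_zpow])
    · exact Or.inr (by rw [zpow_add, zpow_mul, h2, one_zpow, one_mul, zpow_one])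
  · rintro (rfl | rfl)
    · exact one_mem _
    · exact mem_zpowers _

theorem mem_normalizer_zpowers [Finite G] {a x : G} (h : Commute x a) :
    x ∈ normalizer ((zpowers a : Subgroup G) : Set G) := by
  refine mem_normalizer_of_forall ?_
  rintro _ ⟨m, rfl⟩
  show x * a ^ m * x⁻¹ ∈ zpowers a
  rw [(h.zpow_right m).eq, mul_inv_cancel_right]
  exact zpow_mem (mem_zpowers a) m

theorem isPGroup_zpowers_two {a : G} (h : a * a = 1) : IsPGroup 2 (zpowers a) := by
  refine fun x => ⟨1, Subtype.ext ?_⟩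
  rcases (mem_zpowers_two h).1 x.2 with e | e <;> simp [e, pow_two, h]

/-- An involution conjugate to the product of an involution and an element of the odd core is
conjugate to it by the odd core. -/
theorem exists_conj_core [Finite G] {X : Subgroup G} {a u o g : G} (ha : orderOf a = 2)
    (hu : orderOf u = 2) (ho : o ∈ PNil.coreOf X) (e : g * a * g⁻¹ = u * o) :
    ∃ d ∈ PNil.coreOf X, (d⁻¹ * g) * a * (d⁻¹ * g)⁻¹ = u := by
  have hp : u * (g * a * g⁻¹) = o := by rw [e, ← mul_assoc, Invol.inv_mul_self hu, one_mul]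
  obtain ⟨d, hd, hdu⟩ := Invol.exists_conj_zpowers_of_odd hu (y := g * a * g⁻¹)
    (by rw [Invol.orderOf_conj_eq, ha])
    (by rw [hp]; exact (PNil.coreOf_odd X).of_dvd_nat (Subgroup.orderOf_dvd_natCard _ ho))
  rw [hp] at hd
  refine ⟨d, zpowers_le.2 ho hd, ?_⟩
  rw [show d⁻¹ * g * a * (d⁻¹ * g)⁻¹ = d⁻¹ * (g * a * g⁻¹) * d by group, ← hdu]
  group

variable [Finite G] {A N : Subgroup G} {π : ↥N →* ↥(alternatingGroup (Fin 5))} {v : Fin 5 → G}
  {φ : (Fin 5 → Bool) → G}

namespace Frame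

variable (f : Frame A N π v φ)
include f

theorem covers_v (i : Fin 5) :
    ∀ g ∈ centralizer ({v i} : Set G), Covers (PNil.coreOf (centralizer ({v i} : Set G))) N g := by
  intro g hg
  obtain ⟨⟨m, hm⟩, em⟩ := f.proj.surj
    ⟨p5 ^ (i.val + 1), mem_alt (by rw [map_pow, show Equiv.Perm.sign p5 = 1 by decide +kernel, one_pow])⟩
  have hmv : m * v 4 * m⁻¹ = v i := by
    rw [f.equiv m hm 4, em]; exact congrArg v (p5_pow i)
  have hg' : m⁻¹ * g * m ∈ centralizer ({v 4} : Set G) := by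
    refine mem_centralizer_of_commute ?_
    have h1 := (commute_of_mem_centralizer hg).map (MulAut.conj m⁻¹).toMonoidHom
    rw [show (MulAut.conj m⁻¹).toMonoidHom (v i) = v 4 by rw [← hmv]; simp [mul_assoc]] at h1
    simpa [mul_assoc] using h1
  obtain ⟨o, ho, n, hn, e⟩ := f.covers_last _ hg'
  refine ⟨m * o * m⁻¹, hmv ▸ conj_mem_coreOf m ho, m * n * m⁻¹,
    mul_mem (mul_mem hm hn) (inv_mem hm), ?_⟩
  rw [show g = m * (m⁻¹ * g * m) * m⁻¹ by group, e]
  group

theorem covers_pair {i j : Fin 5} (hij : i ≠ j) :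
    ∀ g ∈ centralizer ({v i * v j} : Set G),
      Covers (PNil.coreOf (centralizer ({v i * v j} : Set G))) N g := by
  haveI : Fact (Nat.Prime 2) := ⟨Nat.prime_two⟩
  set w := v i * v j with hw
  set X := centralizer ({w} : Set G)
  have hwA : w ∈ A := mul_mem (f.mem i) (f.mem j)
  have hw2 : w * w = 1 := f.sq hwA
  have hiw : v i * w = v j := by rw [hw, ← mul_assoc, f.sq (f.mem i), one_mul]
  have hjw : v j * w = v i := by
    rw [hw, (f.commute (f.mem i) (f.mem j)).eq, ← mul_assoc, f.sq (f.mem j), one_mul]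
  have hw1 : w ≠ 1 := fun e =>
    hij (f.v_inj ((eq_inv_of_mul_eq_one_left (hw.symm.trans e)).trans (f.inv_eq (f.mem j))))
  have hviX : v i ∈ X := f.le_centralizer hwA (f.mem i)
  set W := zpowers w
  have hWX : W ≤ X := zpowers_le.2 (f.le_centralizer hwA hwA)
  have hW2 : ∀ c ∈ W, c * c = 1 := fun c hc => by
    rcases (mem_zpowers_two hw2).1 hc with rfl | rfl
    exacts [one_mul 1, hw2]
  have hcen : ∀ x ∈ X, ∀ c ∈ W, Commute x c := by
    rintro x hx c ⟨k, rfl⟩
    exact (commute_of_mem_centralizer hx).zpow_right k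
  haveI : (W.subgroupOf X).Normal := ⟨fun c hc x => by
    rw [mem_subgroupOf] at hc ⊢
    push_cast
    rwa [(hcen x x.2 c hc).eq, mul_inv_cancel_right]⟩
  set q := QuotientGroup.mk' (W.subgroupOf X) with hq
  have hq1 : ∀ x : ↥X, q x = 1 ↔ (x : G) ∈ W := fun x => QuotientGroup.eq_one_iff x
  have hvW : v i ∉ W := fun hc => by
    rcases (mem_zpowers_two hw2).1 hc with e | e
    · exact f.v_ne_one i e
    · exact f.class_vw i i j hij (by rw [← hw, ← e])
  -- the image of `v i` is isolated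
  have hiso : Cfsg.IsIsolatedInvolution (q ⟨v i, hviX⟩) := by
    refine ⟨orderOf_eq_prime ?_ (fun e => hvW ((hq1 _).1 e)), fun γ hγ => ?_⟩
    · rw [← map_pow]
      exact (hq1 _).2 (by rw [SubmonoidClass.coe_pow, pow_two, f.sq (f.mem i)]; exact one_mem _)
    obtain ⟨g, rfl⟩ := QuotientGroup.mk'_surjective (W.subgroupOf X) γ
    set x : G := (g : G) * v i * (g : G)⁻¹ with hx
    have hx2 : orderOf x = 2 := by
      rw [hx, Invol.orderOf_conj_eq]; exact orderOf_eq_two f.setup.sq (f.mem i) (f.v_ne_one i)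
    have hi2 : orderOf (v i) = 2 := orderOf_eq_two f.setup.sq (f.mem i) (f.v_ne_one i)
    have hxX : x ∈ X := mul_mem (mul_mem g.2 hviX) (inv_mem g.2)
    have hc : (v i * x) * (v i * x) ∈ W := by
      refine (hq1 ⟨_, mul_mem (mul_mem hviX hxX) (mul_mem hviX hxX)⟩).1 ?_
      show q ((⟨v i, hviX⟩ * (g * ⟨v i, hviX⟩ * g⁻¹)) * (⟨v i, hviX⟩ * (g * ⟨v i, hviX⟩ * g⁻¹))) = 1
      simp only [map_mul, map_inv]
      rw [hγ.symm.mul_mul_mul_comm]
      have h2 : q ⟨v i, hviX⟩ * q ⟨v i, hviX⟩ = 1 := by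
        rw [← map_mul]; exact (hq1 _).2 (by rw [Subgroup.coe_mul, f.sq (f.mem i)]; exact one_mem _)
      rw [h2, one_mul]
      calc q g * q ⟨v i, hviX⟩ * (q g)⁻¹ * (q g * q ⟨v i, hviX⟩ * (q g)⁻¹)
          = q g * (q ⟨v i, hviX⟩ * q ⟨v i, hviX⟩) * (q g)⁻¹ := by group
        _ = 1 := by rw [h2]; group
    have hK : IsPGroup 2 (Subgroup.closure ({v i, x} : Set G)) := by
      intro k
      refine ⟨2, Subtype.ext ?_⟩
      rw [SubmonoidClass.coe_pow, OneMemClass.coe_one, show (2 : ℕ) ^ 2 = 2 * 2 from rfl, pow_mul]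
      have h4 : ((v i * x) * (v i * x)) ^ 2 = 1 := by rw [pow_two]; exact hW2 _ hc
      obtain ⟨m, hm | hm⟩ := (Invol.mem_closure_pair hi2 hx2).1 k.2
      · rw [hm, ← pow_mul, ← zpow_natCast, ← zpow_mul, mul_comm, zpow_mul, zpow_natCast, pow_mul,
          pow_two (v i * x), h4, one_zpow]
      · rw [hm, pow_two (v i * _), Invol.mul_zpow_sq (f.sq (f.mem i)) (Invol.conj_mul_left hi2 hx2) m,
          one_pow]
    have hcom : Commute (v i) x := f.commute_of_pGroup hK (subset_closure (Or.inl rfl))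
      (subset_closure (Or.inr rfl)) (f.mem i) (f.mem i) (IsConj.refl _) (isConj_iff.2 ⟨g, rfl⟩)
    set K := Subgroup.closure ({v i, x} : Set G)
    have hKX : K ≤ X := (closure_le _).2 (by rintro _ (rfl | rfl); exacts [hviX, hxX])
    have hK' : IsPGroup 2 ↥(K ⊔ W : Subgroup G) := hK.to_sup_of_normal_right' (isPGroup_zpowers_two hw2)
      (fun k hk => mem_normalizer_zpowers (commute_of_mem_centralizer (hKX hk)))
    obtain ⟨c, hcK⟩ := f.exists_move hK'
    have hxA : c * x * c⁻¹ ∈ A := (hcK x (mem_sup_left (subset_closure (Or.inr rfl)))).2 _ (f.mem i)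
      (isConj_iff.2 ⟨g, rfl⟩)
    have hiA : c * v i * c⁻¹ ∈ A := (hcK _ (mem_sup_left (subset_closure (Or.inl rfl)))).2 _ (f.mem i)
      (IsConj.refl _)
    have hwA' : c * w * c⁻¹ ∈ A := (hcK w (mem_sup_right (mem_zpowers w))).2 _ hwA (IsConj.refl _)
    obtain ⟨a, ea⟩ := f.conj_v hxA (i := i) (isConj_iff.2 ⟨c * g, by simp only [hx]; group⟩)
    obtain ⟨b, eb⟩ := f.conj_v hiA (i := i) (isConj_iff.2 ⟨c, rfl⟩)
    have e1 : c * x * c⁻¹ * (c * w * c⁻¹) = (c * g) * v j * (c * g)⁻¹ := by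
      rw [← hiw]
      have := (commute_of_mem_centralizer g.2).eq
      calc c * x * c⁻¹ * (c * w * c⁻¹) = c * (g : G) * v i * (g : G)⁻¹ * (w * (g : G)) * (g : G)⁻¹ * c⁻¹ := by
            simp only [hx]; group
        _ = _ := by rw [← this]; group
    have e2 : c * v i * c⁻¹ * (c * w * c⁻¹) = c * v j * c⁻¹ := by rw [← hiw]; group
    obtain ⟨d, ed⟩ := f.conj_v (mul_mem hxA hwA') (i := j) (isConj_iff.2 ⟨c * g, e1.symm⟩)
    obtain ⟨e, ee⟩ := f.conj_v (mul_mem hiA hwA') (i := j) (isConj_iff.2 ⟨c, e2.symm⟩)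
    have had : a ≠ d := fun h' => hw1 (by
      have : c * w * c⁻¹ = 1 := mul_eq_left.1 (ed.trans (h' ▸ ea.symm) : c * x * c⁻¹ * (c * w * c⁻¹) = c * x * c⁻¹)
      exact conj_eq_one_iff.1 this)
    have heq : v a * v d = v b * v e := by
      rw [← ed, ← ee, ← ea, ← eb, ← mul_assoc, ← mul_assoc (c * v i * c⁻¹), f.sq hxA, f.sq hiA]
    show q g * q ⟨v i, hviX⟩ * (q g)⁻¹ = q ⟨v i, hviX⟩
    rw [← map_inv, ← map_mul, ← map_mul]
    rcases f.pair_unique had heq with ⟨rfl, -⟩ | ⟨rfl, -⟩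
    · refine congrArg q (Subtype.ext ?_)
      exact mul_left_cancel (mul_right_cancel (ea.trans eb.symm))
    · have h1 : x = v i * w := by
        rw [hiw]
        exact mul_left_cancel (mul_right_cancel (ea.trans (ee.symm.trans e2)))
      have h2 : g * ⟨v i, hviX⟩ * g⁻¹ = (⟨v i, hviX⟩ : ↥X) * ⟨w, hWX (mem_zpowers w)⟩ := Subtype.ext h1
      rw [h2, map_mul, (hq1 ⟨w, _⟩).2 (mem_zpowers w), mul_one]
  -- the conjugates of `v i`
  have key : ∀ g ∈ X, ∃ d ∈ PNil.coreOf X,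
      d⁻¹ * g * v i * (d⁻¹ * g)⁻¹ = v i ∨ d⁻¹ * g * v i * (d⁻¹ * g)⁻¹ = v j := by
    intro g hg
    have h1 := ZStar.zStarHolds (↥X ⧸ W.subgroupOf X) _ hiso (q ⟨g, hg⟩)
    rw [← map_inv, ← map_inv, ← map_mul, ← map_mul, ← map_mul] at h1
    obtain ⟨c, hc, o, ho, e⟩ := exists_mul_core hWX hW2 hcen
      (x := v i * g * (v i)⁻¹ * g⁻¹) (mul_mem (mul_mem (mul_mem hviX hg) (inv_mem hviX)) (inv_mem hg)) h1
    have hu : orderOf (v i * c) = 2 := by
      rcases (mem_zpowers_two hw2).1 hc with rfl | rfl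
      · rw [mul_one]; exact orderOf_eq_two f.setup.sq (f.mem i) (f.v_ne_one i)
      · rw [hiw]; exact orderOf_eq_two f.setup.sq (f.mem j) (f.v_ne_one j)
    have e' : g * v i * g⁻¹ = v i * c * o := by
      rw [mul_assoc (v i), ← e, f.inv_eq (f.mem i)]
      rw [← mul_assoc, ← mul_assoc, ← mul_assoc, f.sq (f.mem i), one_mul]
    obtain ⟨d, hd, hdu⟩ := exists_conj_core (orderOf_eq_two f.setup.sq (f.mem i) (f.v_ne_one i)) hu ho e'
    refine ⟨d, hd, ?_⟩
    rcases (mem_zpowers_two hw2).1 hc with rfl | rfl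
    · exact Or.inl (by rw [hdu, mul_one])
    · exact Or.inr (by rw [hdu, hiw])
  set D := centralizer ({v i} : Set G) ⊓ X
  set Q := PNil.coreOf D
  have hD2 : ∀ x ∈ D, x ∈ X := fun x hx => hx.2
  have hD : ∀ g ∈ D, Covers Q (N ⊓ D) g := by
    intro g hg
    obtain ⟨o, ho, n, hn, e⟩ := f.covers_v i g hg.1
    have hoC := PNil.coreOf_le _ ho
    have hnC : n ∈ centralizer ({v i} : Set G) := by
      have := mul_mem (inv_mem hoC) hg.1
      rwa [e, inv_mul_cancel_left] at this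
    have hgj : g * v j * g⁻¹ = v j := by
      rw [← hiw, show g * (v i * w) * g⁻¹ = (g * v i * g⁻¹) * (g * w * g⁻¹) by group,
        (commute_of_mem_centralizer hg.1).eq, mul_inv_cancel_right,
        (commute_of_mem_centralizer hg.2).eq, mul_inv_cancel_right]
    have hnj : n * v j * n⁻¹ = v j := by
      refine f.core_fixes (f.le_centralizer (f.mem i)) ho (f.setup.conj_mem hn (f.mem j)) (f.mem j) ?_
      rw [show o * (n * v j * n⁻¹) * o⁻¹ = (o * n) * v j * (o * n)⁻¹ by group, ← e, hgj]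
    have hnX : n ∈ X := mem_centralizer_of_commute (by
      rw [Invol.commute_iff_conj_eq, hw, show n * (v i * v j) * n⁻¹ = (n * v i * n⁻¹) * (n * v j * n⁻¹) by group,
        (commute_of_mem_centralizer hnC).eq, mul_inv_cancel_right, hnj])
    have hoX : o ∈ X := by
      have := mul_mem (hD2 g hg) (inv_mem hnX)
      rwa [e, mul_inv_cancel_right] at this
    refine ⟨o, ?_, n, ⟨hn, hnC, hnX⟩, e⟩
    refine PNil.le_coreOf (K := D) (N := PNil.coreOf (centralizer ({v i} : Set G)) ⊓ X)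
      (inf_le_inf_right _ (PNil.coreOf_le _)) (fun x hx => mem_normalizer_of_forall fun r hr =>
        Subgroup.mem_inf.2 ⟨conj_mem_of_mem_normalizer (PNil.le_normalizer_coreOf _ hx.1) hr.1,
          mul_mem (mul_mem (hD2 x hx) (Subgroup.mem_inf.1 hr).2) (inv_mem (hD2 x hx))⟩)
      ((PNil.coreOf_odd _).of_dvd_nat (card_dvd_of_le inf_le_left)) ⟨ho, hoX⟩
  obtain ⟨σ, hσ, hσi, hσj⟩ := exists_swap i j hij
  obtain ⟨⟨t, ht⟩, et⟩ := f.proj.surj ⟨σ, mem_alt hσ⟩
  have hti : t * v i * t⁻¹ = v j := by rw [f.equiv t ht i, et]; exact congrArg v hσi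
  have htj : t * v j * t⁻¹ = v i := by rw [f.equiv t ht j, et]; exact congrArg v hσj
  have htX : t ∈ X := mem_centralizer_of_commute (by
    rw [Invol.commute_iff_conj_eq, hw, show t * (v i * v j) * t⁻¹ = (t * v i * t⁻¹) * (t * v j * t⁻¹) by group,
      hti, htj, (f.commute (f.mem j) (f.mem i)).eq])
  have htD : t ∈ normalizer (D : Set G) := by
    refine mem_normalizer_of_forall fun x hx => Subgroup.mem_inf.2 ⟨mem_centralizer_of_commute ?_,
      mul_mem (mul_mem htX (hD2 x hx)) (inv_mem htX)⟩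
    have h1 : Commute x (v j) := hiw ▸
      (commute_of_mem_centralizer hx.1).mul_right (commute_of_mem_centralizer hx.2)
    have h2 := h1.map (MulAut.conj t).toMonoidHom
    simpa [htj] using h2
  have hsplit : ∀ g ∈ X, ∃ d ∈ PNil.coreOf X, d⁻¹ * g ∈ D ∨ t⁻¹ * (d⁻¹ * g) ∈ D := by
    intro g hg
    obtain ⟨d, hd, h' | h'⟩ := key g hg
    · exact ⟨d, hd, Or.inl (Subgroup.mem_inf.2 ⟨mem_centralizer_of_commute (Invol.commute_iff_conj_eq.2 h'),
        mul_mem (inv_mem (PNil.coreOf_le X hd)) hg⟩)⟩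
    · refine ⟨d, hd, Or.inr (Subgroup.mem_inf.2 ⟨mem_centralizer_of_commute (Invol.commute_iff_conj_eq.2 ?_),
        mul_mem (inv_mem htX) (mul_mem (inv_mem (PNil.coreOf_le X hd)) hg)⟩)⟩
      rw [show t⁻¹ * (d⁻¹ * g) * v i * (t⁻¹ * (d⁻¹ * g))⁻¹ = t⁻¹ * (d⁻¹ * g * v i * (d⁻¹ * g)⁻¹) * t by group,
        h', ← hti]
      group
  have htO : t ∈ normalizer ((PNil.coreOf X ⊔ Q : Subgroup G) : Set G) :=
    mem_normalizer_sup (PNil.le_normalizer_coreOf X htX) (normalizer_le_normalizer_coreOf D htD)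
  have hDO : ∀ x ∈ D, x ∈ normalizer ((PNil.coreOf X ⊔ Q : Subgroup G) : Set G) := fun x hx =>
    mem_normalizer_sup (PNil.le_normalizer_coreOf X hx.2) (PNil.le_normalizer_coreOf D hx)
  have hQ : Q ≤ PNil.coreOf X := by
    refine le_coreOf_of_sup ((PNil.coreOf_le D).trans inf_le_right) (PNil.coreOf_odd D) fun g hg => ?_
    obtain ⟨d, hd, h'⟩ := hsplit g hg
    have hdn : d ∈ normalizer ((PNil.coreOf X ⊔ Q : Subgroup G) : Set G) :=
      Subgroup.le_normalizer (mem_sup_left hd)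
    rcases h' with h' | h'
    · have := mul_mem hdn (hDO _ h')
      rwa [mul_inv_cancel_left] at this
    · have := mul_mem hdn (mul_mem htO (hDO _ h'))
      rwa [mul_inv_cancel_left, mul_inv_cancel_left] at this
  have hDcov : ∀ x ∈ D, Covers (PNil.coreOf X) N x := fun x hx => by
    obtain ⟨o, ho, n, hn, e⟩ := hD x hx
    exact ⟨o, hQ ho, n, hn.1, e⟩
  intro g hg
  obtain ⟨d, hd, h'⟩ := hsplit g hg
  rcases h' with h' | h'
  · have := (hDcov _ h').core_mul hd
    rwa [mul_inv_cancel_left] at this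
  · have := ((hDcov _ h').mul_left ht (PNil.le_normalizer_coreOf X htX)).core_mul hd
    rwa [mul_inv_cancel_left, mul_inv_cancel_left] at this

theorem covers_mem {a : G} (ha : a ∈ A) (ha1 : a ≠ 1) :
    ∀ g ∈ centralizer ({a} : Set G), Covers (PNil.coreOf (centralizer ({a} : Set G))) N g := by
  obtain ⟨s, rfl⟩ := f.surj a ha
  rcases bool_cases s with rfl | rfl | ⟨i, rfl | rfl⟩ | ⟨i, j, hij, rfl | rfl⟩
  · exact absurd f.phi_false ha1
  · exact absurd f.phi_true ha1
  · rw [f.single]; exact f.covers_v i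
  · rw [f.phi_not, f.single]; exact f.covers_v i
  · rw [f.phi_pair]; exact f.covers_pair hij
  · rw [f.phi_not, f.phi_pair]; exact f.covers_pair hij

/-- An involution of `N`: the last hypothesis of the covering theorem. -/
theorem invol {y : G} (hy : y ∈ N) (hy2 : orderOf y = 2) : ∃ a ∈ A, a ≠ 1 ∧ Commute a y ∧
    (∃ E : Subgroup G, E ≤ A ∧ 4 ≤ Nat.card E ∧ ∀ e ∈ E, Commute e y) ∧
    ∀ g ∈ centralizer ({y} : Set G),
      Covers (PNil.coreOf (centralizer ({y} : Set G))) (centralizer ({a} : Set G)) g := by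
  haveI : Fact (Nat.Prime 2) := ⟨Nat.prime_two⟩
  have hyy := Invol.inv_mul_self hy2
  by_cases hπ : π ⟨y, hy⟩ = 1
  · have hyA := f.proj.mem_of_involution f.setup hy hπ hyy
    exact ⟨y, hyA, Invol.ne_one hy2, Commute.refl y,
      ⟨A, le_rfl, by rw [f.setup.card16]; norm_num, fun e he => f.commute he hyA⟩,
      fun g hg => ⟨1, one_mem _, g, hg, (one_mul g).symm⟩⟩
  have hsq : ∀ (n : G) (hn : n ∈ N), n * n = 1 → π ⟨n, hn⟩ * π ⟨n, hn⟩ = 1 := fun n hn e => by
    rw [← map_mul, show (⟨n, hn⟩ : N) * ⟨n, hn⟩ = 1 from Subtype.ext e, map_one]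
  obtain ⟨k, hk⟩ := fix_one _ (Equiv.Perm.mem_alternatingGroup.1 (π ⟨y, hy⟩).2)
    (congrArg Subtype.val (hsq y hy hyy)) (fun e => hπ (coe_eq_one.2 e))
  have hky : Commute (v k) y := ((f.apply_fix hy).2 ((hk k).2 rfl)).symm
  refine ⟨v k, f.mem k, f.v_ne_one k, hky, ⟨A ⊓ centralizer ({y} : Set G), inf_le_left, ?_,
    fun e he => commute_of_mem_centralizer he.2⟩, ?_⟩
  · rw [(f.proj.card_inf_centralizer f.setup hy (hsq y hy hyy) hπ).1]
  set X := centralizer ({y} : Set G)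
  have hkX : v k ∈ X := mem_centralizer_of_commute hky
  have hiso : Cfsg.IsIsolatedInvolution (⟨v k, hkX⟩ : ↥X) := by
    refine ⟨by rw [orderOf_mk]; exact orderOf_eq_two f.setup.sq (f.mem k) (f.v_ne_one k), fun g hg => ?_⟩
    set x : G := (g : G) * v k * (g : G)⁻¹ with hx
    have hxk : Commute (v k) x := congrArg Subtype.val hg.eq
    have hxX : x ∈ X := mul_mem (mul_mem g.2 hkX) (inv_mem g.2)
    have hx2 : x * x = 1 := by
      rw [show x * x = (g : G) * (v k * v k) * (g : G)⁻¹ by simp only [hx]; group, f.sq (f.mem k)]; group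
    have hK : IsPGroup 2 ↥((zpowers x ⊔ zpowers (v k)) ⊔ zpowers y : Subgroup G) := by
      refine IsPGroup.to_sup_of_normal_right' ((isPGroup_zpowers_two hx2).to_sup_of_normal_right'
        (isPGroup_zpowers_two (f.sq (f.mem k))) (zpowers_le.2 (mem_normalizer_zpowers hxk.symm)))
        (isPGroup_zpowers_two hyy) (sup_le (zpowers_le.2 (mem_normalizer_zpowers
          (commute_of_mem_centralizer hxX))) (zpowers_le.2 (mem_normalizer_zpowers hky)))
    obtain ⟨c, hc⟩ := f.exists_move hK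
    have hxA : c * x * c⁻¹ ∈ A := (hc x (mem_sup_left (mem_sup_left (mem_zpowers x)))).2 _ (f.mem k)
      (isConj_iff.2 ⟨g, rfl⟩)
    have hkA : c * v k * c⁻¹ ∈ A := (hc _ (mem_sup_left (mem_sup_right (mem_zpowers _)))).2 _ (f.mem k)
      (IsConj.refl _)
    obtain ⟨a, ea⟩ := f.conj_v hxA (i := k) (isConj_iff.2 ⟨c * g, by simp only [hx]; group⟩)
    obtain ⟨b, eb⟩ := f.conj_v hkA (i := k) (isConj_iff.2 ⟨c, rfl⟩)
    have hy' := (hc y (mem_sup_right (mem_zpowers y))).1
    have hy'2 : c * y * c⁻¹ * (c * y * c⁻¹) = 1 := by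
      rw [show c * y * c⁻¹ * (c * y * c⁻¹) = c * (y * y) * c⁻¹ by group, hyy]; group
    have hπ' : π ⟨_, hy'⟩ ≠ 1 := fun e => by
      have h1 := f.proj.mem_of_involution f.setup hy' e hy'2
      exact f.class_out _ h1 (fun e => Invol.ne_one hy2 (conj_eq_one_iff.1 e)) y hy hyy hπ
        (isConj_iff.2 ⟨c⁻¹, by group⟩)
    obtain ⟨l, hl⟩ := fix_one _ (Equiv.Perm.mem_alternatingGroup.1 (π ⟨_, hy'⟩).2)
      (congrArg Subtype.val (hsq _ hy' hy'2)) (fun e => hπ' (coe_eq_one.2 e))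
    have hca : Commute (c * y * c⁻¹) (v a) := ea ▸
      (commute_of_mem_centralizer hxX).symm.map (MulAut.conj c).toMonoidHom
    have hcb : Commute (c * y * c⁻¹) (v b) := eb ▸ hky.symm.map (MulAut.conj c).toMonoidHom
    have hab : a = b := ((hl a).1 ((f.apply_fix hy').1 hca)).trans ((hl b).1 ((f.apply_fix hy').1 hcb)).symm
    exact Subtype.ext (mul_left_cancel (mul_right_cancel (ea.trans (hab ▸ eb.symm))))
  intro g hg
  have h1 := ZStar.zStarHolds ↥X _ hiso ⟨g, hg⟩
  set o := v k * g * (v k)⁻¹ * g⁻¹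
  have ho : o ∈ PNil.coreOf X := ⟨_, h1, rfl⟩
  have e : g * v k * g⁻¹ = v k * o := by
    simp only [o]
    rw [f.inv_eq (f.mem k), ← mul_assoc, ← mul_assoc, ← mul_assoc, f.sq (f.mem k), one_mul]
  have hk2 := orderOf_eq_two f.setup.sq (f.mem k) (f.v_ne_one k)
  obtain ⟨d, hd, hdk⟩ := exists_conj_core hk2 hk2 ho e
  exact ⟨d, hd, d⁻¹ * g, mem_centralizer_of_commute (Invol.commute_iff_conj_eq.2 hdk),
    (mul_inv_cancel_left d g).symm⟩

/-- The frame satisfies the hypotheses of the covering theorem. -/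
theorem conf : Conf A N := by
  obtain ⟨S, hSN, hAS, -⟩ := f.proj.exists_sylow f.setup
  exact ⟨f.setup.sq, by rw [f.setup.card16]; norm_num, f.le, f.setup.norm.le, f.setup.norm.ge,
    ⟨S, hSN, hAS⟩, fun a ha g hg => f.closed ha hg, fun a ha ha1 => f.covers_mem ha ha1,
    fun c hc ho => Proj.centA f.setup f.proj hc ho, fun y hy hy2 => f.invol hy hy2,
    ⟨v 0, v 0 * v 1, orderOf_eq_two f.setup.sq (f.mem 0) (f.v_ne_one 0),
      orderOf_eq_two f.setup.sq (mul_mem (f.mem 0) (f.mem 1)) (fun e =>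
        absurd (f.v_inj ((eq_inv_of_mul_eq_one_left e).trans (f.inv_eq (f.mem 1)))) (by decide)),
      f.class_vw 0 0 1 (by decide)⟩⟩

end Frame

/-- The normalizer of `A` covers the group modulo its odd core. -/
theorem Setup.normal_sup (h : Setup A N) : (A ⊔ Cfsg.oddCore G).Normal := by
  obtain ⟨π, v, φ, f⟩ := h.exists_frame
  refine normalizer_eq_top_iff.1 (top_unique fun g _ => ?_)
  obtain ⟨o, ho, n, hn, rfl⟩ := f.conf.covers g
  refine mul_mem (Subgroup.le_normalizer (mem_sup_right ho)) (mem_normalizer_sup (h.norm ▸ hn) ?_)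
  rw [normalizer_eq_top]
  exact mem_top _

end Cfsg.Lib.EightThree
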