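import Cfsg.Agent.Lib.EightThree.Core
import Cfsg.Agent.Lib.Fusion.Abelian

/-!
# Odd cores of subgroups with a central Sylow 2-subgroup in its normalizer

Elementary tools for the local analysis: Burnside's complement read inside subgroups, the odd core
modulo a central subgroup of order two, and a signed form of the transfer value of an involution.
-/

set_option autoImplicit false
set_option linter.style.haveILetI false

namespace Cfsg.Lib.EightThree

open Subgroup Cfsg.Lib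

universe u

variable {G : Type u} [Group G]

theorem mem_normalizer_of_forall [Finite G] {H : Subgroup G} {g : G}
    (h : ∀ x ∈ H, g * x * g⁻¹ ∈ H) : g ∈ normalizer (H : Set G) :=
  mem_normalizer_fintype fun x hx => h x hx

theorem conj_mem_of_mem_normalizer {H : Subgroup G} {g x : G} (hg : g ∈ normalizer (H : Set G))
    (hx : x ∈ H) : g * x * g⁻¹ ∈ H :=
  (mem_normalizer_iff.1 hg x).1 hx

theorem eq_one_of_odd [Finite G] {R : Subgroup G} (hR : IsPGroup 2 R) {x : G} (hx : x ∈ R)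
    (ho : Odd (orderOf x)) : x = 1 := by
  haveI : Fact (Nat.Prime 2) := ⟨Nat.prime_two⟩
  obtain ⟨k, hk⟩ := IsPGroup.iff_orderOf.1 hR ⟨x, hx⟩
  rw [orderOf_mk] at hk
  exact orderOf_eq_one_iff.1 (Nat.eq_one_of_dvd_coprimes
    ((Nat.coprime_two_left.2 ho).pow_left k) (hk ▸ dvd_rfl) dvd_rfl)

theorem eq_one_of_mem_coreOf [Finite G] {K : Subgroup G} {x : G} (hx : x ∈ PNil.coreOf K)
    (h2 : x * x = 1) : x = 1 := by
  by_contra hne
  have h1 := (PNil.coreOf_odd K).of_dvd_nat (Subgroup.orderOf_dvd_natCard _ hx)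
  rw [Invol.orderOf_eq_two_of hne h2] at h1
  exact absurd h1 (by decide)

/-- An element is the product of a 2-element and an element of odd order among its powers. -/
theorem exists_parts [Finite G] (x : G) : ∃ s ∈ zpowers x, ∃ t ∈ zpowers x,
    x = s * t ∧ IsPGroup 2 (zpowers s) ∧ Odd (orderOf t) := by
  haveI : Fact (Nat.Prime 2) := ⟨Nat.prime_two⟩
  obtain ⟨k, l, hl, hkl⟩ := Nat.exists_eq_two_pow_mul_odd (orderOf_pos x).ne'
  have hco : Int.gcd ((2 : ℤ) ^ k) (l : ℤ) = 1 := by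
    rw [Int.gcd_eq_natAbs, Int.natAbs_pow, Int.natAbs_natCast]
    exact (Nat.coprime_two_left.2 hl).pow_left k
  have hb := Int.gcd_eq_gcd_ab ((2 : ℤ) ^ k) (l : ℤ)
  rw [hco] at hb
  set a := Int.gcdA ((2 : ℤ) ^ k) (l : ℤ)
  set b := Int.gcdB ((2 : ℤ) ^ k) (l : ℤ)
  have h1 : x ^ ((2 : ℤ) ^ k * (l : ℤ)) = 1 := by
    rw [show ((2 : ℤ) ^ k * (l : ℤ)) = ((orderOf x : ℕ) : ℤ) by rw [hkl]; push_cast; rfl,
      zpow_natCast, pow_orderOf_eq_one]
  refine ⟨x ^ ((l : ℤ) * b), zpow_mem (mem_zpowers x) _, x ^ ((2 : ℤ) ^ k * a),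
    zpow_mem (mem_zpowers x) _, ?_, ?_, ?_⟩
  · rw [← zpow_add, add_comm, ← hb]; simp
  · have hd : orderOf (x ^ ((l : ℤ) * b)) ∣ 2 ^ k := orderOf_dvd_of_pow_eq_one (by
      rw [← zpow_natCast, ← zpow_mul,
        show (l : ℤ) * b * ((2 ^ k : ℕ) : ℤ) = (2 : ℤ) ^ k * (l : ℤ) * b by push_cast; ring,
        zpow_mul, h1, one_zpow])
    obtain ⟨m, -, hm⟩ := (Nat.dvd_prime_pow Nat.prime_two).1 hd
    exact IsPGroup.of_card (n := m) (by rw [Nat.card_zpowers, hm])
  · refine Odd.of_dvd_nat hl (orderOf_dvd_of_pow_eq_one ?_)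
    rw [← zpow_natCast, ← zpow_mul,
      show (2 : ℤ) ^ k * a * (l : ℤ) = (2 : ℤ) ^ k * (l : ℤ) * a by ring,
      zpow_mul, h1, one_zpow]

theorem exists_sylow_subgroupOf {C P : Subgroup G} (hPC : P ≤ C) (hP : IsPGroup 2 P)
    (hmax : ∀ R : Subgroup G, R ≤ C → IsPGroup 2 R → P ≤ R → R ≤ P) :
    ∃ S : Sylow 2 ↥C, (S : Subgroup ↥C) = P.subgroupOf C := by
  refine ⟨⟨P.subgroupOf C, hP.comap_of_injective C.subtype C.subtype_injective,
    fun {Q} hQ hle => le_antisymm (fun q hq => ?_) hle⟩, rfl⟩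
  exact hmax (Q.map C.subtype) (map_subtype_le _) (hQ.map _)
    (fun p hp => ⟨⟨p, hPC hp⟩, hle hp, rfl⟩) ⟨q, hq, rfl⟩

/-- Sylow's theorem inside a subgroup. -/
theorem exists_conj_le [Finite G] {C P : Subgroup G} (hPC : P ≤ C) (hP : IsPGroup 2 P)
    (hmax : ∀ R : Subgroup G, R ≤ C → IsPGroup 2 R → P ≤ R → R ≤ P)
    {K : Subgroup G} (hKC : K ≤ C) (hK : IsPGroup 2 K) : ∃ c ∈ C, ∀ k ∈ K, c * k * c⁻¹ ∈ P := by
  haveI : Fact (Nat.Prime 2) := ⟨Nat.prime_two⟩
  obtain ⟨S, hS⟩ := exists_sylow_subgroupOf hPC hP hmax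
  obtain ⟨c, hc⟩ := Invol.exists_conj_mem_sylow S
    (hK.comap_of_injective C.subtype C.subtype_injective : IsPGroup 2 (K.subgroupOf C))
  refine ⟨c, c.2, fun k hk => ?_⟩
  have := hc ⟨k, hKC hk⟩ hk
  rw [hS] at this
  exact this

/-- Burnside: a Sylow subgroup centralized by its normalizer has an odd complement. -/
theorem covers_of_central [Finite G] {C P : Subgroup G} (hPC : P ≤ C) (hP : IsPGroup 2 P)
    (hmax : ∀ R : Subgroup G, R ≤ C → IsPGroup 2 R → P ≤ R → R ≤ P)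
    (h : ∀ n ∈ C, (∀ p ∈ P, n * p * n⁻¹ ∈ P) → ∀ p ∈ P, Commute n p) :
    ∀ g ∈ C, Covers (PNil.coreOf C) P g := by
  haveI : Fact (Nat.Prime 2) := ⟨Nat.prime_two⟩
  obtain ⟨S, hS⟩ := exists_sylow_subgroupOf hPC hP hmax
  have hc : normalizer ((S : Subgroup ↥C) : Set ↥C) ≤ centralizer ((S : Subgroup ↥C) : Set ↥C) := by
    intro n hn
    rw [hS] at hn ⊢
    refine mem_centralizer_iff.2 fun p hp => Subtype.ext ?_
    exact (h n n.2 (fun q hq => (mem_normalizer_iff.1 hn ⟨q, hPC hq⟩).1 hq) p hp).symm.eq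
  have hcompl := MonoidHom.ker_transferSylow_isComplement' S hc
  set K := (MonoidHom.transferSylow S hc).ker
  have hodd : Odd (Nat.card K) := by
    have h1 := hcompl.card_mul
    rw [← (S : Subgroup ↥C).index_mul_card] at h1
    rw [Nat.eq_of_mul_eq_mul_right Nat.card_pos h1]
    exact Nat.odd_iff.2 (Nat.two_dvd_ne_zero.1 S.not_dvd_index)
  intro g hg
  obtain ⟨o, ho, p, hp, e⟩ := mem_sup_of_normal_left.1 (hcompl.sup_eq_top.ge (mem_top (⟨g, hg⟩ : ↥C)))
  rw [hS] at hp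
  exact ⟨o, PNil.mem_coreOf o.2 (ZStar.le_oddCore inferInstance hodd ho), p, hp,
    (congrArg Subtype.val e).symm⟩

/-- Then the elements of odd order lie in the odd core. -/
theorem mem_coreOf_of_odd [Finite G] {C P : Subgroup G} (hPC : P ≤ C) (hP : IsPGroup 2 P)
    (hcov : ∀ g ∈ C, Covers (PNil.coreOf C) P g) {c : G} (hc : c ∈ C) (ho : Odd (orderOf c)) :
    c ∈ PNil.coreOf C := by
  haveI : Fact (Nat.Prime 2) := ⟨Nat.prime_two⟩
  obtain ⟨o, hoO, p, hp, rfl⟩ := hcov c hc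
  have key : ∀ j : ℕ, ∃ o' ∈ PNil.coreOf C, (o * p) ^ j = o' * p ^ j := by
    intro j
    induction j with
    | zero => exact ⟨1, one_mem _, by simp⟩
    | succ j ih =>
      obtain ⟨o', ho', e⟩ := ih
      refine ⟨o' * (p ^ j * o * (p ^ j)⁻¹), mul_mem ho' (conj_mem_of_mem_normalizer
        (PNil.le_normalizer_coreOf C (pow_mem (hPC hp) j)) hoO), ?_⟩
      rw [pow_succ, e, pow_succ]
      group
  obtain ⟨o', ho', e⟩ := key (orderOf (o * p))
  rw [pow_orderOf_eq_one] at e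
  have h1 : p ^ orderOf (o * p) = 1 := by
    refine eq_one_of_odd hP (pow_mem hp _) ?_
    rw [← inv_eq_of_mul_eq_one_right e.symm, orderOf_inv]
    exact (PNil.coreOf_odd C).of_dvd_nat (Subgroup.orderOf_dvd_natCard _ ho')
  have hp1 : p = 1 := eq_one_of_odd hP hp (Odd.of_dvd_nat ho (orderOf_dvd_of_pow_eq_one h1))
  rwa [hp1, mul_one]

theorem normalizer_le_normalizer_coreOf [Finite G] (K : Subgroup G) :
    normalizer (K : Set G) ≤ normalizer (PNil.coreOf K : Set G) :=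
  Cfsg.Lib.Core.normalizer_le_normalizer_map_char _

theorem mem_normalizer_sup [Finite G] {Q R : Subgroup G} {g : G}
    (hQ : g ∈ normalizer (Q : Set G)) (hR : g ∈ normalizer (R : Set G)) :
    g ∈ normalizer ((Q ⊔ R : Subgroup G) : Set G) := by
  refine mem_normalizer_of_forall fun x hx => ?_
  have hle : Q ⊔ R ≤ (Q ⊔ R).comap (MulAut.conj g).toMonoidHom :=
    sup_le (fun y hy => mem_sup_left (conj_mem_of_mem_normalizer hQ hy))
      (fun y hy => mem_sup_right (conj_mem_of_mem_normalizer hR hy))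
  exact hle hx

theorem odd_sup [Finite G] {Q R : Subgroup G} (h : R ≤ normalizer (Q : Set G))
    (hQ : Odd (Nat.card Q)) (hR : Odd (Nat.card R)) : Odd (Nat.card ↥(Q ⊔ R)) := by
  set H := normalizer (Q : Set G)
  have h1 := Cfsg.Lib.Core.card_sup_dvd_mul (R.subgroupOf H) (Q.subgroupOf H)
  rw [← subgroupOf_sup h Subgroup.le_normalizer,
    Nat.card_congr (subgroupOfEquivOfLe (sup_le h Subgroup.le_normalizer)).toEquiv,
    Nat.card_congr (subgroupOfEquivOfLe h).toEquiv,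
    Nat.card_congr (subgroupOfEquivOfLe (Subgroup.le_normalizer : Q ≤ H)).toEquiv, sup_comm] at h1
  exact (hR.mul hQ).of_dvd_nat h1

/-- An odd subgroup that is invariant modulo the odd core lies in it. -/
theorem le_coreOf_of_sup [Finite G] {X Q : Subgroup G} (hQX : Q ≤ X) (hQ : Odd (Nat.card Q))
    (hn : X ≤ normalizer ((PNil.coreOf X ⊔ Q : Subgroup G) : Set G)) : Q ≤ PNil.coreOf X :=
  le_sup_right.trans (PNil.le_coreOf (sup_le (PNil.coreOf_le X) hQX) hn
    (odd_sup (hQX.trans (PNil.le_normalizer_coreOf X)) (PNil.coreOf_odd X) hQ))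

/-- The odd core modulo a central elementary 2-subgroup. -/
theorem exists_mul_core [Finite G] {X Z : Subgroup G} (hZX : Z ≤ X) [(Z.subgroupOf X).Normal]
    (hZ : ∀ z ∈ Z, z * z = 1) (hcen : ∀ x ∈ X, ∀ z ∈ Z, Commute x z) {x : G} (hx : x ∈ X)
    (h : (QuotientGroup.mk' (Z.subgroupOf X) ⟨x, hx⟩) ∈ Cfsg.oddCore (↥X ⧸ Z.subgroupOf X)) :
    ∃ z ∈ Z, ∃ o ∈ PNil.coreOf X, x = z * o := by
  set q := QuotientGroup.mk' (Z.subgroupOf X)
  set M₀ := (Cfsg.oddCore (↥X ⧸ Z.subgroupOf X)).comap q with hM₀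
  set M := M₀.map X.subtype
  have hZM : Z ≤ M := fun z hz => ⟨⟨z, hZX hz⟩, by
    show q ⟨z, hZX hz⟩ ∈ Cfsg.oddCore _
    rw [show q ⟨z, hZX hz⟩ = 1 from (QuotientGroup.eq_one_iff _).2 hz]
    exact one_mem _, rfl⟩
  have hMX : M ≤ X := map_subtype_le _
  have hcov := covers_of_central hZM (isPGroup_of_sq hZ)
    (fun R hRM hR _ r hr => by
      obtain ⟨⟨r', hr'⟩, hm, rfl⟩ := hRM hr
      have hq : q ⟨r', hr'⟩ = 1 := by
        refine eq_one_of_odd (((hR.comap_of_injective X.subtype X.subtype_injective)).map q)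
          ⟨_, hr, rfl⟩ ?_
        exact ZStar.odd_orderOf_oddCore hm
      exact (QuotientGroup.eq_one_iff (⟨r', hr'⟩ : ↥X)).1 hq)
    (fun n hn _ p hp => hcen n (hMX hn) p hp)
  obtain ⟨o, ho, z, hz, e⟩ := hcov x ⟨⟨x, hx⟩, h, rfl⟩
  refine ⟨z, hz, o, ?_, by rw [e]; exact (hcen o (hMX (PNil.coreOf_le M ho)) z hz).eq⟩
  refine PNil.le_coreOf ((PNil.coreOf_le M).trans hMX) ?_ (PNil.coreOf_odd M) ho
  refine le_trans ?_ (normalizer_le_normalizer_coreOf M)
  intro g hg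
  refine mem_normalizer_of_forall ?_
  rintro _ ⟨m, hm, rfl⟩
  exact ⟨⟨g, hg⟩ * m * ⟨g, hg⟩⁻¹, (Subgroup.Normal.comap inferInstance q).conj_mem m hm ⟨g, hg⟩, rfl⟩

open MulAction in
/-- The transfer value of an involution all of whose conjugates in the Sylow subgroup have one sign. -/
theorem transfer_sign [Finite G] (P : Sylow 2 G) (χ : (P : Subgroup G) →* ℤˣ) (ε : ℤˣ)
    (u : G) (hu : u * u = 1)
    (h : ∀ g : G, ∀ hg : g⁻¹ * u * g ∈ (P : Subgroup G), χ ⟨_, hg⟩ = ε) :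
    MonoidHom.transfer χ u = ε := by
  classical
  haveI := Fintype.ofFinite (G ⧸ (P : Subgroup G))
  haveI : Finite (orbitRel.Quotient (zpowers u) (G ⧸ (P : Subgroup G))) := Quotient.finite _
  haveI := Fintype.ofFinite (orbitRel.Quotient (zpowers u) (G ⧸ (P : Subgroup G)))
  rw [MonoidHom.transfer_eq_prod_quotient_orbitRel_zpowers_quot]
  have hper : ∀ c : G ⧸ (P : Subgroup G),
      Function.minimalPeriod (u • ·) c = 1 ∨ Function.minimalPeriod (u • ·) c = 2 := by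
    intro c
    have h2 : u ^ 2 • c = c := by rw [pow_two, hu, one_smul]
    rw [pow_smul_eq_iff_minimalPeriod_dvd] at h2
    exact (Nat.dvd_prime Nat.prime_two).mp h2
  have hterm : ∀ q : orbitRel.Quotient (zpowers u) (G ⧸ (P : Subgroup G)),
      χ ⟨q.out.out⁻¹ * u ^ Function.minimalPeriod (u • ·) q.out * q.out.out,
        QuotientGroup.out_conj_pow_minimalPeriod_mem (P : Subgroup G) u q.out⟩ =
        ε ^ Function.minimalPeriod (u • ·) q.out := by
    intro q
    have hmem := QuotientGroup.out_conj_pow_minimalPeriod_mem (P : Subgroup G) u q.out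
    rcases hper q.out with h1 | h2
    · simp only [h1, pow_one] at hmem ⊢
      exact h q.out.out hmem
    · simp only [h2, pow_two, hu, mul_one, inv_mul_cancel] at hmem ⊢
      rw [show (⟨(1 : G), hmem⟩ : (P : Subgroup G)) = 1 from rfl, map_one, Int.units_mul_self]
  rw [Finset.prod_congr rfl (fun q _ => hterm q), Finset.prod_pow_eq_pow_sum,
    ← Subgroup.index_eq_sum_minimalPeriod (P : Subgroup G) u]
  obtain ⟨m, hm⟩ := Nat.odd_iff.2 (Nat.two_dvd_ne_zero.1 P.not_dvd_index)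
  rw [hm, pow_add, pow_mul, pow_two, Int.units_mul_self, one_pow, one_mul, pow_one]

end Cfsg.Lib.EightThree
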