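import Cfsg.Agent.Lib.EightThree.Setup

/-!
# The five distinguished involutions and the three classes

`A` has five involutions permuted by `N` as the five points, any proper nonempty subfamily having
product different from one. The three classes of involutions of `G` are those of these five, of
their products by pairs, and of the involutions of `N` outside `A`.
-/

set_option autoImplicit false
set_option linter.style.haveILetI false

namespace Cfsg.Lib.EightThree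

open Subgroup Cfsg.Lib

universe u

variable {G : Type u} [Group G] [Finite G]

section Decide

/-- `(01)(23)`. -/
def p1 : Equiv.Perm (Fin 5) := Equiv.swap 0 1 * Equiv.swap 2 3
/-- `(02)(13)`. -/
def p2 : Equiv.Perm (Fin 5) := Equiv.swap 0 2 * Equiv.swap 1 3
/-- `(012)`. -/
def p3 : Equiv.Perm (Fin 5) := Equiv.swap 0 1 * Equiv.swap 1 2
/-- A five-cycle. -/
def p5 : Equiv.Perm (Fin 5) := finRotate 5

theorem p5_pow : ∀ i : Fin 5, (p5 ^ (i.val + 1)) 4 = i := by decide +kernel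

theorem stab_four : ∀ σ : Equiv.Perm (Fin 5), Equiv.Perm.sign σ = 1 → σ 4 = 4 →
    ∃ j : Fin 3, σ = p3 ^ j.val ∨ σ = p3 ^ j.val * p1 ∨ σ = p3 ^ j.val * p2 ∨
      σ = p3 ^ j.val * (p1 * p2) := by
  decide +kernel

theorem klein_pair : ∀ i j : Fin 5, i ≠ j →
    ∃ e : Fin 3, ∃ f : Fin 3,
      ((p5 ^ (i.val + 1)) * ![p1, p2, p1 * p2] e * (p5 ^ (i.val + 1))⁻¹ *
        ((p5 ^ (j.val + 1)) * ![p1, p2, p1 * p2] f * (p5 ^ (j.val + 1))⁻¹)) ^ 5 = 1 ∧
      (p5 ^ (i.val + 1)) * ![p1, p2, p1 * p2] e * (p5 ^ (i.val + 1))⁻¹ *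
        ((p5 ^ (j.val + 1)) * ![p1, p2, p1 * p2] f * (p5 ^ (j.val + 1))⁻¹) ≠ 1 := by
  decide +kernel

theorem move_fixing : ∀ i j k : Fin 5, i ≠ j → k ≠ i →
    ∃ σ : Equiv.Perm (Fin 5), Equiv.Perm.sign σ = 1 ∧ σ i = i ∧ σ j = k := by decide +kernel

theorem exists_swap : ∀ i j : Fin 5, i ≠ j →
    ∃ σ : Equiv.Perm (Fin 5), Equiv.Perm.sign σ = 1 ∧ σ i = j ∧ σ j = i := by decide +kernel

theorem exists_move : ∀ i j k l : Fin 5, i ≠ j → k ≠ l →
    ∃ σ : Equiv.Perm (Fin 5), Equiv.Perm.sign σ = 1 ∧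
      ((σ i = k ∧ σ j = l) ∨ (σ i = l ∧ σ j = k)) := by decide +kernel

theorem bool_cases : ∀ s : Fin 5 → Bool, s = (fun _ => false) ∨ s = (fun _ => true) ∨
    (∃ i : Fin 5, s = (fun l => decide (l = i)) ∨ s = (fun l => !decide (l = i))) ∨
    (∃ i j : Fin 5, i ≠ j ∧ (s = (fun l => xor (decide (l = i)) (decide (l = j))) ∨
      s = (fun l => !(xor (decide (l = i)) (decide (l = j)))))) := by
  decide +kernel

theorem mem_alt {σ : Equiv.Perm (Fin 5)} (h : Equiv.Perm.sign σ = 1) : σ ∈ alternatingGroup (Fin 5) :=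
  Equiv.Perm.mem_alternatingGroup.2 h

end Decide

/-- The data of the five involutions. -/
structure Frame (A N : Subgroup G) (π : ↥N →* ↥(alternatingGroup (Fin 5))) (v : Fin 5 → G)
    (φ : (Fin 5 → Bool) → G) : Prop where
  setup : Setup A N
  proj : Proj A N π
  mem : ∀ i, v i ∈ A
  equiv : ∀ (n : G) (hn : n ∈ N) (i : Fin 5),
    n * v i * n⁻¹ = v ((π ⟨n, hn⟩ : Equiv.Perm (Fin 5)) i)
  single : ∀ i, φ (fun l => decide (l = i)) = v i
  xor_mul : ∀ s t, φ (fun l => xor (s l) (t l)) = φ s * φ t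
  eq_iff : ∀ s t, φ s = φ t ↔ (s = t ∨ s = fun l => !t l)
  surj : ∀ a ∈ A, ∃ s, φ s = a
  class_vw : ∀ i k l, k ≠ l → ¬ IsConj (v i) (v k * v l)
  class_out : ∀ a ∈ A, a ≠ 1 → ∀ (y : G) (hy : y ∈ N), y * y = 1 → π ⟨y, hy⟩ ≠ 1 → ¬ IsConj a y
  outside : ∃ (y : G) (hy : y ∈ N), y * y = 1 ∧ π ⟨y, hy⟩ ≠ 1

namespace Proj

variable {A N : Subgroup G} {π : ↥N →* ↥(alternatingGroup (Fin 5))} (p : Proj A N π) (h : Setup A N)
include p h

/-- The involutions of `N` outside the kernel are conjugate. -/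
theorem isConj_outside {y y' : G} (hy : y ∈ N) (hy' : y' ∈ N) (h2 : y * y = 1) (h2' : y' * y' = 1)
    (h1 : π ⟨y, hy⟩ ≠ 1) (h1' : π ⟨y', hy'⟩ ≠ 1) : IsConj y y' := by
  have hsgn := fun (n : G) (hn : n ∈ N) => Equiv.Perm.mem_alternatingGroup.1 (π ⟨n, hn⟩).2
  have hsq : ∀ (n : G) (hn : n ∈ N), n * n = 1 →
      (π ⟨n, hn⟩ : Equiv.Perm (Fin 5)) * (π ⟨n, hn⟩ : Equiv.Perm (Fin 5)) = 1 := fun n hn e => by
    rw [← MulMemClass.coe_mul, ← map_mul]
    rw [show (⟨n, hn⟩ : N) * ⟨n, hn⟩ = 1 from Subtype.ext e, map_one]; rfl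
  obtain ⟨σ, hσ1, hσ⟩ := conj_five _ (hsgn y hy) (hsq y hy h2) (fun e => h1 (coe_eq_one.2 e))
    _ (hsgn y' hy') (hsq y' hy' h2') (fun e => h1' (coe_eq_one.2 e))
  obtain ⟨⟨k, hk⟩, hkσ⟩ := p.surj ⟨σ, mem_alt hσ1⟩
  refine (isConj_iff.2 ⟨k, rfl⟩ : IsConj y (k * y * k⁻¹)).trans ?_
  set z := k * y * k⁻¹
  have hz : z ∈ N := mul_mem (mul_mem hk hy) (inv_mem hk)
  have hz2 : z * z = 1 := by rw [show z * z = k * (y * y) * k⁻¹ by simp only [z]; group, h2]; group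
  have ez : π ⟨z, hz⟩ = π ⟨y', hy'⟩ := by
    apply Subtype.ext
    rw [show (⟨z, hz⟩ : N) = ⟨k, hk⟩ * ⟨y, hy⟩ * ⟨k, hk⟩⁻¹ from rfl, map_mul, map_mul, map_inv, hkσ]
    exact hσ
  obtain ⟨a, ha, o, ho, e⟩ := (p.apply_eq_one_iff h (mul_mem (inv_mem hz) hy')).1 (by
    rw [show (⟨z⁻¹ * y', mul_mem (inv_mem hz) hy'⟩ : N) = ⟨z, hz⟩⁻¹ * ⟨y', hy'⟩ from rfl, map_mul,
      map_inv, ez, inv_mul_cancel])
  rw [inv_eq_of_mul_eq_one_right hz2] at e
  have ey : y' = z * a * o := by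
    rw [mul_assoc, ← e, ← mul_assoc, hz2, one_mul]
  set u := z * a
  have hu : u ∈ N := mul_mem hz (h.le ha)
  have hno : z * o * z⁻¹ ∈ PNil.coreOf N :=
    (mem_normalizer_iff.1 (PNil.le_normalizer_coreOf N hz) o).1 ho
  -- `u` is an involution
  have huu : u * u ∈ A := by
    have h3 : u * u = z * a * z⁻¹ * (z * z) * a := by simp only [u]; group
    rw [h3, hz2, mul_one]
    exact mul_mem (h.conj_mem hz ha) ha
  have hu2 : u * u = 1 := by
    by_contra hne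
    have h4 : u * u ∈ PNil.coreOf N := by
      have h5 : (u * o) * (u * o) = 1 := by rw [← ey]; exact h2'
      have hnu : u⁻¹ * o * u ∈ PNil.coreOf N := by
        simpa using (mem_normalizer_iff.1 (PNil.le_normalizer_coreOf N (inv_mem hu)) o).1 ho
      have h6 : u * u = ((u⁻¹ * o * u) * o)⁻¹ := by
        refine eq_inv_of_mul_eq_one_left ?_
        rw [show u * u * (u⁻¹ * o * u * o) = u * o * (u * o) by group]; exact h5
      rw [h6]
      exact inv_mem (mul_mem hnu ho)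
    have h7 := (PNil.coreOf_odd N).of_dvd_nat (Subgroup.orderOf_dvd_natCard _ h4)
    rw [orderOf_eq_two h.sq huu hne] at h7
    exact absurd h7 (by decide)
  have hu1 : u ≠ 1 := fun e' => h1' (by
    rw [← ez]
    have : π ⟨u, hu⟩ = π ⟨z, hz⟩ * π ⟨a, h.le ha⟩ := map_mul π ⟨z, hz⟩ ⟨a, h.le ha⟩
    rw [p.apply_of_mem h ha, mul_one] at this
    rw [← this]
    exact (congrArg π (show (⟨u, hu⟩ : N) = 1 from Subtype.ext e')).trans (map_one π))
  have hy'1 : y' ≠ 1 := fun e' => h1' ((congrArg π (show (⟨y', hy'⟩ : N) = 1 from Subtype.ext e')).trans (map_one π))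
  have hodd : Odd (orderOf (u * y')) := by
    rw [ey, ← mul_assoc, hu2, one_mul]
    exact (PNil.coreOf_odd N).of_dvd_nat (Subgroup.orderOf_dvd_natCard _ ho)
  refine IsConj.trans ?_ (Invol.isConj_of_odd (Invol.orderOf_eq_two_of hu1 hu2)
    (Invol.orderOf_eq_two_of hy'1 h2') hodd)
  -- `u` is conjugate to `z`
  have hza : a ∈ A ⊓ centralizer ({z} : Set G) := ⟨ha, mem_centralizer_of_commute (by
    have h3 : (z * a) * (z * a) = 1 := hu2
    have e1 : z * a = (z * a)⁻¹ := eq_inv_of_mul_eq_one_right h3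
    rw [mul_inv_rev, inv_eq_of_mul_eq_one_right (h.sq a ha), inv_eq_of_mul_eq_one_right hz2] at e1
    exact e1.symm)⟩
  obtain ⟨b, hb, eb⟩ := (p.card_inf_centralizer h hz (by
    rw [ez, ← map_mul, show (⟨y', hy'⟩ : N) * ⟨y', hy'⟩ = 1 from Subtype.ext h2', map_one])
    (by rw [ez]; exact h1')).2 a hza
  refine isConj_iff.2 ⟨b, ?_⟩
  rw [inv_eq_of_mul_eq_one_right (h.sq b hb)]
  show b * z * b = z * a
  have hc := (commute_of_sq h.sq (by
    have := h.conj_mem hz hb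
    rwa [inv_eq_of_mul_eq_one_right hz2] at this) hb).eq
  calc b * z * b = (z * z) * (b * z * b) := by rw [hz2, one_mul]
    _ = z * ((z * b * z) * b) := by group
    _ = z * (b * (z * b * z)) := by rw [hc]
    _ = z * a := by rw [eb, inv_eq_of_mul_eq_one_right hz2]

/-- Every involution is conjugate into `N`. -/
theorem exists_conj_mem {x : G} (hx : orderOf x = 2) : ∃ g : G, g * x * g⁻¹ ∈ N := by
  haveI : Fact (Nat.Prime 2) := ⟨Nat.prime_two⟩
  obtain ⟨S, hSN, -⟩ := p.exists_sylow h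
  obtain ⟨g, hg⟩ := Invol.exists_conj_mem_sylow S
    (IsPGroup.of_card (n := 1) (by rw [Nat.card_zpowers, hx, pow_one]) : IsPGroup 2 (zpowers x))
  exact ⟨g, hSN (hg x (mem_zpowers x))⟩

omit p in
/-- The three classes cannot be covered by fewer involutions, nor repeated among three. -/
theorem covering {m : ℕ} (f : Fin m → G)
    (cover : ∀ x : G, orderOf x = 2 → ∃ i, IsConj (f i) x) :
    3 ≤ m ∧ (m = 3 → ∀ i j, IsConj (f i) (f j) → i = j) := by
  let T := {c : ConjClasses G // ∃ x ∈ c.carrier, orderOf x = 2}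
  have hT : ∀ c : T, ∃ i, ConjClasses.mk (f i) = c.1 := by
    rintro ⟨c, x, hx, hx2⟩
    obtain ⟨i, hi⟩ := cover x hx2
    exact ⟨i, (ConjClasses.mk_eq_mk_iff_isConj.2 hi).trans (ConjClasses.mem_carrier_iff_mk_eq.1 hx)⟩
  choose g hg using hT
  have hinj : Function.Injective g := fun a b e => Subtype.ext ((hg a).symm.trans (e ▸ hg b))
  have hm := Nat.card_le_card_of_injective g hinj
  rw [Nat.card_eq_fintype_card (α := Fin m), Fintype.card_fin, h.three] at hm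
  refine ⟨hm, ?_⟩
  rintro rfl i j hij
  have hb : Function.Bijective g := hinj.bijective_of_nat_card_le
    (by rw [Nat.card_eq_fintype_card (α := Fin 3), Fintype.card_fin, h.three])
  obtain ⟨a, rfl⟩ := hb.2 i
  obtain ⟨b, rfl⟩ := hb.2 j
  exact congrArg g (Subtype.ext ((hg a).symm.trans
    ((ConjClasses.mk_eq_mk_iff_isConj.2 hij).trans (hg b))))

/-- An involution of `A` centralized by the preimage of a point stabilizer. -/
theorem exists_point : ∃ c ∈ A, c ≠ 1 ∧ ∀ (n : G) (hn : n ∈ N),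
    (π ⟨n, hn⟩ : Equiv.Perm (Fin 5)) 4 = 4 → n * c * n⁻¹ = c := by
  obtain ⟨⟨n1, hn1⟩, e1⟩ := p.surj ⟨p1, mem_alt (by decide +kernel)⟩
  obtain ⟨⟨n2, hn2⟩, e2⟩ := p.surj ⟨p2, mem_alt (by decide +kernel)⟩
  obtain ⟨⟨n3, hn3⟩, e3⟩ := p.surj ⟨p3, mem_alt (by decide +kernel)⟩
  obtain ⟨⟨n5, hn5⟩, e5⟩ := p.surj ⟨p5, mem_alt (by decide +kernel)⟩
  have hw : ∀ (n : G) (hn : n ∈ N), (π ⟨n, hn⟩ : Equiv.Perm (Fin 5)) 4 = 4 → ∀ a ∈ A,
      n1 * a * n1⁻¹ = a → n2 * a * n2⁻¹ = a → ∃ j : Fin 3, n * a * n⁻¹ = n3 ^ j.val * a * (n3 ^ j.val)⁻¹ := by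
    intro n hn h4 a ha f1 f2
    obtain ⟨j, hj⟩ := stab_four _ (Equiv.Perm.mem_alternatingGroup.1 (π ⟨n, hn⟩).2) h4
    have hp : π (⟨n3, hn3⟩ ^ j.val) = ⟨p3, mem_alt (by decide +kernel)⟩ ^ j.val := by rw [map_pow, e3]
    refine ⟨j, ?_⟩
    rcases hj with hj | hj | hj | hj
    · exact p.conj_eq h hn (pow_mem hn3 _) (Subtype.ext (hj.trans (congrArg Subtype.val hp).symm)) ha
    · rw [p.conj_eq h hn (mul_mem (pow_mem hn3 j.val) hn1) (by
        apply Subtype.ext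
        rw [show (⟨n3 ^ j.val * n1, mul_mem (pow_mem hn3 _) hn1⟩ : N) = ⟨n3, hn3⟩ ^ j.val * ⟨n1, hn1⟩ from rfl,
          map_mul, hp, e1, hj]
        rfl) ha]
      conv_rhs => rw [← f1]
      group
    · rw [p.conj_eq h hn (mul_mem (pow_mem hn3 j.val) hn2) (by
        apply Subtype.ext
        rw [show (⟨n3 ^ j.val * n2, mul_mem (pow_mem hn3 _) hn2⟩ : N) = ⟨n3, hn3⟩ ^ j.val * ⟨n2, hn2⟩ from rfl,
          map_mul, hp, e2, hj]
        rfl) ha]
      conv_rhs => rw [← f2]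
      group
    · rw [p.conj_eq h hn (mul_mem (pow_mem hn3 j.val) (mul_mem hn1 hn2)) (by
        apply Subtype.ext
        rw [show (⟨n3 ^ j.val * (n1 * n2), mul_mem (pow_mem hn3 _) (mul_mem hn1 hn2)⟩ : N) =
            ⟨n3, hn3⟩ ^ j.val * (⟨n1, hn1⟩ * ⟨n2, hn2⟩) from rfl, map_mul, map_mul, hp, e1, e2, hj]
        rfl) ha]
      conv_rhs => rw [← f1, ← f2]
      group
  have hsq : ∀ (n : G) (hn : n ∈ N) (σ : Equiv.Perm (Fin 5)), (π ⟨n, hn⟩ : Equiv.Perm (Fin 5)) = σ →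
      σ * σ = 1 → σ ≠ 1 → Nat.card (A ⊓ centralizer ({n} : Set G) : Subgroup G) = 4 := by
    intro n hn σ e hσ hσ1
    exact (p.card_inf_centralizer h hn (Subtype.ext (by rw [MulMemClass.coe_mul, e, hσ]; rfl))
      (fun e' => hσ1 (by rw [← e, e']; rfl))).1
  have hc1 : Nat.card (A ⊓ centralizer ({n1} : Set G) : Subgroup G) = 4 :=
    hsq n1 hn1 p1 (congrArg Subtype.val e1) (by decide +kernel) (by decide +kernel)
  set C1 := A ⊓ centralizer ({n1} : Set G)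
  have hmem1 : ∀ a, a ∈ C1 ↔ a ∈ A ∧ n1 * a * n1⁻¹ = a := fun a =>
    ⟨fun ha => ⟨ha.1, mul_inv_eq_iff_eq_mul.2 (commute_of_mem_centralizer ha.2).symm.eq⟩,
      fun ha => ⟨ha.1, mem_centralizer_of_commute (Commute.symm (mul_inv_eq_iff_eq_mul.1 ha.2))⟩⟩
  -- a common fixed point of `n1` and `n2`
  obtain ⟨c, hcA, hc0, f1, f2⟩ : ∃ c ∈ A, c ≠ 1 ∧ n1 * c * n1⁻¹ = c ∧ n2 * c * n2⁻¹ = c := by
    haveI : Nontrivial C1 := Finite.one_lt_card_iff_nontrivial.1 (by rw [hc1]; norm_num)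
    obtain ⟨⟨a, ha⟩, hne⟩ := exists_ne (1 : C1)
    obtain ⟨haA, ha1⟩ := (hmem1 a).1 ha
    by_cases h2 : n2 * a * n2⁻¹ = a
    · exact ⟨a, haA, fun e => hne (Subtype.ext e), ha1, h2⟩
    · have hb := h.conj_mem hn2 haA
      refine ⟨a * (n2 * a * n2⁻¹), mul_mem haA hb, fun e => h2 ?_, ?_, ?_⟩
      · rw [eq_inv_of_mul_eq_one_right e, inv_eq_of_mul_eq_one_right (h.sq a haA)]
      · have e12 := p.conj_eq h (mul_mem hn1 hn2) (mul_mem hn2 hn1) (by
          rw [show (⟨n1 * n2, mul_mem hn1 hn2⟩ : N) = ⟨n1, hn1⟩ * ⟨n2, hn2⟩ from rfl,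
            show (⟨n2 * n1, mul_mem hn2 hn1⟩ : N) = ⟨n2, hn2⟩ * ⟨n1, hn1⟩ from rfl, map_mul, map_mul, e1, e2]
          exact Subtype.ext (show p1 * p2 = p2 * p1 by decide +kernel)) haA
        calc n1 * (a * (n2 * a * n2⁻¹)) * n1⁻¹ = (n1 * a * n1⁻¹) * (n1 * n2 * a * (n1 * n2)⁻¹) := by group
          _ = (n1 * a * n1⁻¹) * (n2 * (n1 * a * n1⁻¹) * n2⁻¹) := by rw [e12]; group
          _ = a * (n2 * a * n2⁻¹) := by rw [ha1]
      · have e22 := p.conj_eq h (mul_mem hn2 hn2) (one_mem N) (by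
          rw [show (⟨n2 * n2, mul_mem hn2 hn2⟩ : N) = ⟨n2, hn2⟩ * ⟨n2, hn2⟩ from rfl, map_mul, e2]
          refine (Subtype.ext (show p2 * p2 = 1 by decide +kernel)).trans (map_one π).symm) haA
        rw [one_mul, inv_one, mul_one] at e22
        calc n2 * (a * (n2 * a * n2⁻¹)) * n2⁻¹ = (n2 * a * n2⁻¹) * (n2 * n2 * a * (n2 * n2)⁻¹) := by group
          _ = a * (n2 * a * n2⁻¹) := by rw [e22, (commute_of_sq h.sq hb haA).eq]
  by_cases hfix : ∀ a ∈ A, a ≠ 1 → n1 * a * n1⁻¹ = a → n2 * a * n2⁻¹ = a → n3 * a * n3⁻¹ ≠ a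
  swap
  · push Not at hfix
    obtain ⟨a, ha, ha0, g1, g2, g3⟩ := hfix
    refine ⟨a, ha, ha0, fun n hn h4 => ?_⟩
    obtain ⟨j, hj⟩ := hw n hn h4 a ha g1 g2
    rw [hj]
    have : Commute n3 a := mul_inv_eq_iff_eq_mul.1 g3
    rw [(this.pow_left j.val).eq, mul_inv_cancel_right]
  -- otherwise all involutions of `A` are conjugate
  exfalso
  set C := C1 ⊓ centralizer ({n2} : Set G)
  have hmem : ∀ a, a ∈ C ↔ a ∈ A ∧ n1 * a * n1⁻¹ = a ∧ n2 * a * n2⁻¹ = a := fun a =>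
    ⟨fun ha => ⟨ha.1.1, ((hmem1 a).1 ha.1).2,
        mul_inv_eq_iff_eq_mul.2 (commute_of_mem_centralizer ha.2).symm.eq⟩,
      fun ha => ⟨(hmem1 a).2 ⟨ha.1, ha.2.1⟩,
        mem_centralizer_of_commute (Commute.symm (mul_inv_eq_iff_eq_mul.1 ha.2.2))⟩⟩
  have hstep : ∀ a ∈ C, n3 * a * n3⁻¹ ∈ C := by
    intro a ha
    obtain ⟨haA, g1, g2⟩ := (hmem a).1 ha
    refine (hmem _).2 ⟨h.conj_mem hn3 haA, ?_, ?_⟩
    · have e := p.conj_eq h (mul_mem hn1 hn3) (mul_mem hn3 hn2) (by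
        rw [show (⟨n1 * n3, mul_mem hn1 hn3⟩ : N) = ⟨n1, hn1⟩ * ⟨n3, hn3⟩ from rfl,
          show (⟨n3 * n2, mul_mem hn3 hn2⟩ : N) = ⟨n3, hn3⟩ * ⟨n2, hn2⟩ from rfl, map_mul, map_mul, e1, e2, e3]
        exact Subtype.ext (show p1 * p3 = p3 * p2 by decide +kernel)) haA
      calc n1 * (n3 * a * n3⁻¹) * n1⁻¹ = n1 * n3 * a * (n1 * n3)⁻¹ := by group
        _ = n3 * (n2 * a * n2⁻¹) * n3⁻¹ := by rw [e]; group
        _ = n3 * a * n3⁻¹ := by rw [g2]
    · have e := p.conj_eq h (mul_mem hn2 hn3) (mul_mem hn3 (mul_mem hn1 hn2)) (by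
        rw [show (⟨n2 * n3, mul_mem hn2 hn3⟩ : N) = ⟨n2, hn2⟩ * ⟨n3, hn3⟩ from rfl,
          show (⟨n3 * (n1 * n2), mul_mem hn3 (mul_mem hn1 hn2)⟩ : N) = ⟨n3, hn3⟩ * (⟨n1, hn1⟩ * ⟨n2, hn2⟩) from rfl,
          map_mul, map_mul, map_mul, e1, e2, e3]
        exact Subtype.ext (show p2 * p3 = p3 * (p1 * p2) by decide +kernel)) haA
      calc n2 * (n3 * a * n3⁻¹) * n2⁻¹ = n2 * n3 * a * (n2 * n3)⁻¹ := by group
        _ = n3 * (n1 * (n2 * a * n2⁻¹) * n1⁻¹) * n3⁻¹ := by rw [e]; group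
        _ = n3 * a * n3⁻¹ := by rw [g2, g1]
  have hcC : c ∈ C := (hmem c).2 ⟨hcA, f1, f2⟩
  let cs : Fin 3 → G := fun j => n3 ^ j.val * c * (n3 ^ j.val)⁻¹
  have hcs : ∀ j, cs j ∈ C := by
    have hh : ∀ k : ℕ, n3 ^ k * c * (n3 ^ k)⁻¹ ∈ C := by
      intro k
      induction k with
      | zero => simpa using hcC
      | succ k ih =>
        rw [show n3 ^ (k + 1) * c * (n3 ^ (k + 1))⁻¹ = n3 * (n3 ^ k * c * (n3 ^ k)⁻¹) * n3⁻¹ by
          rw [pow_succ']; group]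
        exact hstep _ ih
    exact fun j => hh j.val
  have hcs1 : ∀ j, cs j ≠ 1 := fun j e => hc0 (conj_eq_one_iff.1 e)
  have hcsinj : Function.Injective cs := by
    intro a b e
    by_contra hne
    have hfx : ∀ k : ℕ, n3 ^ k * c * (n3 ^ k)⁻¹ = c → ¬ (k = 1 ∨ k = 2) := by
      rintro k ek (rfl | rfl)
      · rw [pow_one] at ek
        exact hfix c hcA hc0 f1 f2 ek
      · have e3' := p.conj_eq h (mul_mem (pow_mem hn3 2) hn3) (one_mem N) (by
          rw [show (⟨n3 ^ 2 * n3, mul_mem (pow_mem hn3 2) hn3⟩ : N) = ⟨n3, hn3⟩ ^ 2 * ⟨n3, hn3⟩ from rfl,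
            map_mul, map_pow, e3]
          exact (Subtype.ext (show p3 ^ 2 * p3 = 1 by decide +kernel)).trans (map_one π).symm) hcA
        rw [one_mul, inv_one, mul_one] at e3'
        refine hfix c hcA hc0 f1 f2 ?_
        calc n3 * c * n3⁻¹ = n3 * (n3 ^ 2 * c * (n3 ^ 2)⁻¹) * n3⁻¹ := by rw [ek]
          _ = n3 ^ 2 * n3 * c * (n3 ^ 2 * n3)⁻¹ := by group
          _ = c := e3'
    have e' : n3 ^ a.val * c * (n3 ^ a.val)⁻¹ = n3 ^ b.val * c * (n3 ^ b.val)⁻¹ := e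
    have hab : a.val ≠ b.val := fun e'' => hne (Fin.ext e'')
    have ha' := a.isLt
    have hb' := b.isLt
    rcases Nat.lt_or_gt_of_ne hab with hlt | hlt
    · obtain ⟨d, hd⟩ := Nat.exists_eq_add_of_lt hlt
      refine hfx (d + 1) ?_ (by omega)
      rw [hd, add_assoc, pow_add] at e'
      have e'' : n3 ^ a.val * (n3 ^ (d + 1) * c * (n3 ^ (d + 1))⁻¹) * (n3 ^ a.val)⁻¹ =
          n3 ^ a.val * c * (n3 ^ a.val)⁻¹ := by rw [e']; group
      exact mul_left_cancel (mul_right_cancel e'')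
    · obtain ⟨d, hd⟩ := Nat.exists_eq_add_of_lt hlt
      refine hfx (d + 1) ?_ (by omega)
      rw [hd, add_assoc, pow_add] at e'
      have e'' : n3 ^ b.val * (n3 ^ (d + 1) * c * (n3 ^ (d + 1))⁻¹) * (n3 ^ b.val)⁻¹ =
          n3 ^ b.val * c * (n3 ^ b.val)⁻¹ := by rw [← e']; group
      exact mul_left_cancel (mul_right_cancel e'')
  let F : Option (Fin 5 × Fin 3) → A := fun o => o.elim 1
    (fun z => ⟨n5 ^ (z.1.val + 1) * cs z.2 * (n5 ^ (z.1.val + 1))⁻¹,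
      h.conj_mem (pow_mem hn5 _) ((hmem _).1 (hcs z.2)).1⟩)
  have hFinj : Function.Injective F := by
    rintro (_ | ⟨i, j⟩) (_ | ⟨k, l⟩) e
    · rfl
    · exact absurd (conj_eq_one_iff.1 (congrArg Subtype.val e).symm) (hcs1 l)
    · exact absurd (conj_eq_one_iff.1 (congrArg Subtype.val e)) (hcs1 j)
    have e' : n5 ^ (i.val + 1) * cs j * (n5 ^ (i.val + 1))⁻¹ = n5 ^ (k.val + 1) * cs l * (n5 ^ (k.val + 1))⁻¹ :=
      congrArg Subtype.val e
    by_cases hik : i = k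
    · subst hik
      rw [hcsinj (mul_left_cancel (mul_right_cancel e'))]
    exfalso
    obtain ⟨s, t, h5, hne⟩ := klein_pair i k hik
    have hV : ∀ s : Fin 3, ∃ n : G, ∃ hn : n ∈ N,
        (π ⟨n, hn⟩ : Equiv.Perm (Fin 5)) = ![p1, p2, p1 * p2] s ∧
        ∀ a ∈ C, n * a * n⁻¹ = a := by
      intro s
      fin_cases s
      · exact ⟨n1, hn1, congrArg Subtype.val e1, fun a ha => ((hmem a).1 ha).2.1⟩
      · exact ⟨n2, hn2, congrArg Subtype.val e2, fun a ha => ((hmem a).1 ha).2.2⟩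
      · refine ⟨n1 * n2, mul_mem hn1 hn2, ?_, fun a ha => ?_⟩
        · rw [show (⟨n1 * n2, mul_mem hn1 hn2⟩ : N) = ⟨n1, hn1⟩ * ⟨n2, hn2⟩ from rfl, map_mul, e1, e2]
          rfl
        · rw [show n1 * n2 * a * (n1 * n2)⁻¹ = n1 * (n2 * a * n2⁻¹) * n1⁻¹ by group,
            ((hmem a).1 ha).2.2, ((hmem a).1 ha).2.1]
    obtain ⟨a, haN, ea, hafix⟩ := hV s
    obtain ⟨b, hbN, eb, hbfix⟩ := hV t
    set u := n5 ^ (i.val + 1) with hu
    set w := n5 ^ (k.val + 1) with hw'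
    set x := u * cs j * u⁻¹
    have hxA : x ∈ A := h.conj_mem (pow_mem hn5 _) ((hmem _).1 (hcs j)).1
    set m := u * a * u⁻¹ * (w * b * w⁻¹)
    have hm : m ∈ N := mul_mem (mul_mem (mul_mem (pow_mem hn5 _) haN) (inv_mem (pow_mem hn5 _)))
      (mul_mem (mul_mem (pow_mem hn5 _) hbN) (inv_mem (pow_mem hn5 _)))
    have hmπ : (π ⟨m, hm⟩ : Equiv.Perm (Fin 5)) =
        p5 ^ (i.val + 1) * ![p1, p2, p1 * p2] s * (p5 ^ (i.val + 1))⁻¹ *
        (p5 ^ (k.val + 1) * ![p1, p2, p1 * p2] t * (p5 ^ (k.val + 1))⁻¹) := by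
      rw [show (⟨m, hm⟩ : N) = ⟨n5, hn5⟩ ^ (i.val + 1) * ⟨a, haN⟩ * (⟨n5, hn5⟩ ^ (i.val + 1))⁻¹ *
        (⟨n5, hn5⟩ ^ (k.val + 1) * ⟨b, hbN⟩ * (⟨n5, hn5⟩ ^ (k.val + 1))⁻¹) from rfl,
        map_mul, map_mul, map_mul, map_mul, map_mul, map_inv, map_inv, map_pow, map_pow, e5, ← ea, ← eb]
      rfl
    refine conj_eq_one_iff.not.2 (hcs1 j) (p.five_fixes h hm (Subtype.ext ?_) (fun e0 => hne ?_) hxA ?_)
    · rw [SubmonoidClass.coe_pow, hmπ, h5]; rfl
    · rw [← hmπ, e0]; rfl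
    · calc m * x * m⁻¹ = u * a * u⁻¹ * (w * (b * (w⁻¹ * x * w) * b⁻¹) * w⁻¹) * (u * a * u⁻¹)⁻¹ := by
            simp only [m]; group
        _ = u * a * u⁻¹ * x * (u * a * u⁻¹)⁻¹ := by
            rw [show w⁻¹ * x * w = cs l by rw [show x = w * cs l * w⁻¹ from e']; group,
              hbfix _ (hcs l), ← e']
        _ = u * (a * cs j * a⁻¹) * u⁻¹ := by simp only [x]; group
        _ = x := by rw [hafix _ (hcs j)]
  have hFsurj : ∀ a : A, ∃ o, F o = a := by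
    haveI := Fintype.ofFinite A
    exact (hFinj.bijective_of_nat_card_le (by
      rw [h.card16, Nat.card_eq_fintype_card]; rfl)).2
  have hall : ∀ a ∈ A, a ≠ 1 → IsConj c a := by
    intro a ha ha0
    obtain ⟨o, ho⟩ := hFsurj ⟨a, ha⟩
    rcases o with _ | ⟨i, j⟩
    · exact absurd (congrArg Subtype.val ho).symm ha0
    · refine isConj_iff.2 ⟨n5 ^ (i.val + 1) * n3 ^ j.val, ?_⟩
      rw [← show (n5 ^ (i.val + 1) * cs j * (n5 ^ (i.val + 1))⁻¹) = a from congrArg Subtype.val ho]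
      simp only [cs]; group
  by_cases hout : ∃ (y : G) (hy : y ∈ N), y * y = 1 ∧ π ⟨y, hy⟩ ≠ 1
  · obtain ⟨y, hy, hy2, hy1⟩ := hout
    have := (Proj.covering h ![c, y] fun x hx => by
      obtain ⟨g, hg⟩ := p.exists_conj_mem h hx
      have hconj : IsConj (g * x * g⁻¹) x := (isConj_iff.2 ⟨g, rfl⟩ : IsConj x (g * x * g⁻¹)).symm
      have hx2 : g * x * g⁻¹ * (g * x * g⁻¹) = 1 := Invol.inv_mul_self (by rw [Invol.orderOf_conj_eq, hx])
      by_cases hπ : π ⟨_, hg⟩ = 1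
      · exact ⟨0, (hall _ (p.mem_of_involution h hg hπ hx2)
          (Invol.ne_one (by rw [Invol.orderOf_conj_eq, hx]))).trans hconj⟩
      · exact ⟨1, (p.isConj_outside h hy hg hy2 hx2 hy1 hπ).trans hconj⟩).1
    omega
  · push Not at hout
    have := (Proj.covering h ![c] fun x hx => by
      obtain ⟨g, hg⟩ := p.exists_conj_mem h hx
      have hx2 : g * x * g⁻¹ * (g * x * g⁻¹) = 1 := Invol.inv_mul_self (by rw [Invol.orderOf_conj_eq, hx])
      exact ⟨0, (hall _ (p.mem_of_involution h hg (hout _ hg hx2) hx2)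
        (Invol.ne_one (by rw [Invol.orderOf_conj_eq, hx]))).trans
          (isConj_iff.2 ⟨g, rfl⟩ : IsConj x (g * x * g⁻¹)).symm⟩).1
    omega

end Proj

/-- The frame exists. -/
theorem Setup.exists_frame {A N : Subgroup G} (h : Setup A N) :
    ∃ π v φ, Frame A N π v φ := by
  obtain ⟨π, hπs, hπk⟩ := h.quot
  have p : Proj A N π := ⟨hπs, hπk⟩
  obtain ⟨c, hcA, hc0, hc⟩ := p.exists_point h
  obtain ⟨⟨n5, hn5⟩, e5⟩ := p.surj ⟨p5, mem_alt (by decide +kernel)⟩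
  let v : Fin 5 → G := fun i => n5 ^ (i.val + 1) * c * (n5 ^ (i.val + 1))⁻¹
  have hvA : ∀ i, v i ∈ A := fun i => h.conj_mem (pow_mem hn5 _) hcA
  have hequiv : ∀ (n : G) (hn : n ∈ N) (i : Fin 5),
      n * v i * n⁻¹ = v ((π ⟨n, hn⟩ : Equiv.Perm (Fin 5)) i) := by
    intro n hn i
    set k := (π ⟨n, hn⟩ : Equiv.Perm (Fin 5)) i with hk
    set m := (n5 ^ (k.val + 1))⁻¹ * n * n5 ^ (i.val + 1)
    have hm : m ∈ N := mul_mem (mul_mem (inv_mem (pow_mem hn5 _)) hn) (pow_mem hn5 _)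
    have := hc m hm (by
      rw [show (⟨m, hm⟩ : N) = (⟨n5, hn5⟩ ^ (k.val + 1))⁻¹ * ⟨n, hn⟩ * ⟨n5, hn5⟩ ^ (i.val + 1) from rfl,
        map_mul, map_mul, map_inv, map_pow, map_pow, e5]
      show ((p5 ^ (k.val + 1))⁻¹ * (π ⟨n, hn⟩ : Equiv.Perm (Fin 5)) * p5 ^ (i.val + 1)) 4 = 4
      rw [Equiv.Perm.mul_apply, Equiv.Perm.mul_apply, p5_pow i, ← hk, Equiv.Perm.inv_eq_iff_eq, p5_pow k])
    show n * (n5 ^ (i.val + 1) * c * (n5 ^ (i.val + 1))⁻¹) * n⁻¹ = n5 ^ (k.val + 1) * c * (n5 ^ (k.val + 1))⁻¹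
    conv_rhs => rw [← this]
    simp only [m]
    group
  have hvinj : Function.Injective v := by
    intro i j e
    by_contra hne
    have hall : ∀ k, v k = v i := by
      intro k
      by_cases hk : k = i
      · rw [hk]
      obtain ⟨σ, hσ, hσi, hσj⟩ := move_fixing i j k hne hk
      obtain ⟨⟨m, hm⟩, em⟩ := p.surj ⟨σ, mem_alt hσ⟩
      have e1 := hequiv m hm i
      have e2 := hequiv m hm j
      rw [em] at e1 e2
      simp only [hσi, hσj] at e1 e2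
      rw [← e2, ← e, e1]
    refine hc0 (conj_eq_one_iff.1 ((p.five_fixes h hn5 ?_ ?_ (hvA i) ?_ : v i = 1)))
    · rw [e5]; exact Subtype.ext (show p5 ^ 5 = 1 by decide +kernel)
    · rw [e5]; exact fun e' => absurd (congrArg Subtype.val e') (by decide +kernel)
    · rw [hequiv n5 hn5 i]; exact hall _
  letI : CommGroup A := { (inferInstance : Group A) with
    mul_comm := fun a b => Subtype.ext (commute_of_sq h.sq a.2 b.2).eq }
  let va : Fin 5 → A := fun i => ⟨v i, hvA i⟩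
  let φ : (Fin 5 → Bool) → A := fun s => ∏ i, if s i = true then va i else 1
  have hxor : ∀ s t, φ (fun l => xor (s l) (t l)) = φ s * φ t := by
    intro s t
    rw [← Finset.prod_mul_distrib]
    refine Finset.prod_congr rfl fun i _ => ?_
    have hsq : va i * va i = 1 := Subtype.ext (h.sq _ (hvA i))
    rcases Bool.eq_false_or_eq_true (s i) with hs | hs <;>
      rcases Bool.eq_false_or_eq_true (t i) with ht | ht <;> simp [hs, ht, hsq]
  have hsingle : ∀ i, φ (fun l => decide (l = i)) = va i := by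
    intro i
    simp only [φ, decide_eq_true_eq]
    rw [Finset.prod_ite_eq' Finset.univ i va]
    simp
  have htop : φ (fun _ => true) = 1 := by
    let ψ : MulAut A := normalizerMonoidHom A ⟨n5, h.norm ▸ hn5⟩
    have hψ : ψ (φ fun _ => true) = φ fun _ => true := by
      simp only [φ, map_prod]
      refine Fintype.prod_equiv (π ⟨n5, hn5⟩ : Equiv.Perm (Fin 5)) _ _ fun i => ?_
      simp only [if_true]
      exact Subtype.ext (hequiv n5 hn5 i)
    refine Subtype.ext (p.five_fixes h hn5 ?_ ?_ (φ fun _ => true).2 (congrArg Subtype.val hψ))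
    · rw [e5]; exact Subtype.ext (show p5 ^ 5 = 1 by decide +kernel)
    · rw [e5]; exact fun e' => absurd (congrArg Subtype.val e') (by decide +kernel)
  have hfalse : φ (fun _ => false) = 1 := Finset.prod_eq_one fun i _ => by simp
  have hnot : ∀ s, φ (fun l => !s l) = φ s := by
    intro s
    rw [show (fun l => !s l) = fun l => xor (s l) ((fun _ => true) l) from
      funext fun l => by simp, hxor, htop, mul_one]
  have hv1 : ∀ i, va i ≠ 1 := fun i e => hc0 (conj_eq_one_iff.1 (congrArg Subtype.val e))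
  have hker : ∀ s, φ s = 1 → s = (fun _ => false) ∨ s = (fun _ => true) := by
    intro s hs
    rcases bool_cases s with e | e | ⟨i, e | e⟩ | ⟨i, j, hij, e | e⟩
    · exact Or.inl e
    · exact Or.inr e
    · rw [e, hsingle] at hs; exact absurd hs (hv1 i)
    · rw [e, hnot, hsingle] at hs; exact absurd hs (hv1 i)
    · rw [e, hxor, hsingle, hsingle] at hs
      refine absurd (hvinj ?_) hij
      have := congrArg Subtype.val (eq_inv_of_mul_eq_one_left hs)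
      exact this.trans (inv_eq_of_mul_eq_one_right (h.sq _ (hvA j)))
    · rw [e, hnot, hxor, hsingle, hsingle] at hs
      refine absurd (hvinj ?_) hij
      have := congrArg Subtype.val (eq_inv_of_mul_eq_one_left hs)
      exact this.trans (inv_eq_of_mul_eq_one_right (h.sq _ (hvA j)))
  have hiff : ∀ s t, φ s = φ t ↔ (s = t ∨ s = fun l => !t l) := by
    intro s t
    constructor
    · intro e
      have h1 : φ (fun l => xor (s l) (t l)) = 1 := by
        rw [hxor, e, ← hxor, show (fun l => xor (t l) (t l)) = fun _ => false from funext fun l => by simp, hfalse]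
      rcases hker _ h1 with e1 | e1
      · exact Or.inl (funext fun l => by have := congrFun e1 l; simpa using this)
      · refine Or.inr (funext fun l => ?_)
        have h2 := congrFun e1 l
        revert h2
        cases s l <;> cases t l <;> simp
    · rintro (rfl | rfl)
      · rfl
      · exact hnot t
  have hsurj : ∀ a : A, ∃ s, φ s = a := by
    have hinj : Function.Injective (fun s : {s : Fin 5 → Bool // s 0 = false} => φ s.1) := by
      intro s t e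
      rcases (hiff _ _).1 e with e1 | e1
      · exact Subtype.ext e1
      · exact absurd (congrFun e1 0) (by rw [s.2, t.2]; simp)
    intro a
    obtain ⟨s, hs⟩ := (hinj.bijective_of_nat_card_le (by
      rw [h.card16, Nat.card_eq_fintype_card]
      decide +kernel)).2 a
    exact ⟨s.1, hs⟩
  have hcase : ∀ a ∈ A, a ≠ 1 → (∃ i, a = v i) ∨ ∃ i j, i ≠ j ∧ a = v i * v j := by
    intro a ha ha0
    obtain ⟨s, hs⟩ := hsurj ⟨a, ha⟩
    have hs' : ((φ s : A) : G) = a := congrArg Subtype.val hs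
    rcases bool_cases s with e | e | ⟨i, e | e⟩ | ⟨i, j, hij, e | e⟩
    · rw [e, hfalse] at hs'; exact absurd hs'.symm ha0
    · rw [e, htop] at hs'; exact absurd hs'.symm ha0
    · exact Or.inl ⟨i, by rw [← hs', e, hsingle]⟩
    · exact Or.inl ⟨i, by rw [← hs', e, hnot, hsingle]⟩
    · exact Or.inr ⟨i, j, hij, by rw [← hs', e, hxor, hsingle, hsingle]; rfl⟩
    · exact Or.inr ⟨i, j, hij, by rw [← hs', e, hnot, hxor, hsingle, hsingle]; rfl⟩
  -- classes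
  have hvv : ∀ i k, IsConj (v i) (v k) := fun i k =>
    ((isConj_iff.2 ⟨_, rfl⟩ : IsConj c (v i)).symm).trans (isConj_iff.2 ⟨_, rfl⟩ : IsConj c (v k))
  have hww : ∀ i j k l, i ≠ j → k ≠ l → IsConj (v i * v j) (v k * v l) := by
    intro i j k l hij hkl
    obtain ⟨σ, hσ, hcases⟩ := exists_move i j k l hij hkl
    obtain ⟨⟨m, hm⟩, em⟩ := p.surj ⟨σ, mem_alt hσ⟩
    refine isConj_iff.2 ⟨m, ?_⟩
    rw [show m * (v i * v j) * m⁻¹ = (m * v i * m⁻¹) * (m * v j * m⁻¹) by group, hequiv m hm, hequiv m hm, em]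
    rcases hcases with ⟨a, b⟩ | ⟨a, b⟩ <;> simp only [a, b]
    exact (commute_of_sq h.sq (hvA l) (hvA k)).eq
  have hcover : ∀ (y : G) (hy : y ∈ N), y * y = 1 → π ⟨y, hy⟩ ≠ 1 →
      ∀ x : G, orderOf x = 2 → ∃ i, IsConj (![v 0, v 0 * v 1, y] i) x := by
    intro y hy hy2 hy1 x hx
    obtain ⟨g, hg⟩ := p.exists_conj_mem h hx
    have hconj : IsConj (g * x * g⁻¹) x := (isConj_iff.2 ⟨g, rfl⟩ : IsConj x (g * x * g⁻¹)).symm
    have hx2 : g * x * g⁻¹ * (g * x * g⁻¹) = 1 := Invol.inv_mul_self (by rw [Invol.orderOf_conj_eq, hx])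
    by_cases hπ : π ⟨_, hg⟩ = 1
    · rcases hcase _ (p.mem_of_involution h hg hπ hx2) (Invol.ne_one (by rw [Invol.orderOf_conj_eq, hx]))
        with ⟨i, e⟩ | ⟨i, j, hij, e⟩
      · exact ⟨0, (hvv 0 i).trans (e ▸ hconj)⟩
      · exact ⟨1, (hww 0 1 i j (by decide) hij).trans (e ▸ hconj)⟩
    · exact ⟨2, (p.isConj_outside h hy hg hy2 hx2 hy1 hπ).trans hconj⟩
  obtain ⟨y0, hy0, hy02, hy01⟩ : ∃ (y : G) (hy : y ∈ N), y * y = 1 ∧ π ⟨y, hy⟩ ≠ 1 := by
    by_contra hout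
    push Not at hout
    have := (Proj.covering h ![v 0, v 0 * v 1] fun x hx => by
      obtain ⟨g, hg⟩ := p.exists_conj_mem h hx
      have hconj : IsConj (g * x * g⁻¹) x := (isConj_iff.2 ⟨g, rfl⟩ : IsConj x (g * x * g⁻¹)).symm
      have hx2 : g * x * g⁻¹ * (g * x * g⁻¹) = 1 := Invol.inv_mul_self (by rw [Invol.orderOf_conj_eq, hx])
      rcases hcase _ (p.mem_of_involution h hg (hout _ hg hx2) hx2)
        (Invol.ne_one (by rw [Invol.orderOf_conj_eq, hx])) with ⟨i, e⟩ | ⟨i, j, hij, e⟩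
      · exact ⟨0, (hvv 0 i).trans (e ▸ hconj)⟩
      · exact ⟨1, (hww 0 1 i j (by decide) hij).trans (e ▸ hconj)⟩).1
    omega
  refine ⟨π, v, fun s => ((φ s : A) : G), ?_⟩
  refine ⟨h, p, hvA, hequiv, fun i => congrArg Subtype.val (hsingle i), fun s t => congrArg Subtype.val (hxor s t),
    fun s t => ⟨fun e => (hiff s t).1 (Subtype.ext e), fun e => congrArg Subtype.val ((hiff s t).2 e)⟩,
    fun a ha => (hsurj ⟨a, ha⟩).imp fun s hs => congrArg Subtype.val hs, ?_, ?_, ⟨y0, hy0, hy02, hy01⟩⟩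
  · intro i k l hkl hc'
    exact absurd ((Proj.covering h _ (hcover y0 hy0 hy02 hy01)).2 rfl 0 1
      ((hvv 0 i).trans (hc'.trans (hww k l 0 1 hkl (by decide))))) (by decide)
  · intro a ha ha0 y hy hy2 hy1 hc'
    have hd := (Proj.covering h _ (hcover y hy hy2 hy1)).2 rfl
    rcases hcase a ha ha0 with ⟨i, rfl⟩ | ⟨i, j, hij, rfl⟩
    · exact absurd (hd 0 2 ((hvv 0 i).trans hc')) (by decide)
    · exact absurd (hd 1 2 ((hww 0 1 i j (by decide) hij).trans hc')) (by decide)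

end Cfsg.Lib.EightThree
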