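import Cfsg.Agent.Lib.EightThree.Points

/-!
# The index two subgroup of a Sylow subgroup of the centralizer of the last involution

A Sylow 2-subgroup over the four permutations fixing the last point is `A` extended by two commuting
involutions; its subgroup of the elements commuting with the first of them modulo the last involution
is elementary abelian modulo it, and an element of odd order normalizing it and fixing one of its
elements modulo the last involution centralizes it.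
-/

set_option autoImplicit false
set_option linter.style.haveILetI false

namespace Cfsg.Lib.EightThree

open Subgroup Cfsg.Lib

universe u

theorem p1_p2 : p1 * p2 = p2 * p1 := by decide +kernel
theorem k4_sq : ∀ i, k4 i * k4 i = 1 := by decide +kernel
theorem k4_ne : ∀ i : Fin 4, i ≠ 0 → k4 i ≠ 1 := by decide +kernel
theorem k4_four : ∀ i, k4 i 4 = 4 := by decide +kernel
theorem k4_sign : ∀ i, Equiv.Perm.sign (k4 i) = 1 := by decide +kernel
theorem k4_mul : ∀ i j, ∃ k, k4 k = k4 i * k4 j := by decide +kernel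
theorem k4_inj : ∀ i j, k4 i = k4 j → i = j := by decide +kernel

/-- The group of the four permutations, inside the alternating group. -/
def kSub : Subgroup ↥(alternatingGroup (Fin 5)) where
  carrier := {σ | ∃ i, (σ : Equiv.Perm (Fin 5)) = k4 i}
  one_mem' := ⟨0, rfl⟩
  mul_mem' := by
    rintro a b ⟨i, hi⟩ ⟨j, hj⟩
    obtain ⟨k, hk⟩ := k4_mul i j
    exact ⟨k, by rw [Subgroup.coe_mul, hi, hj, hk]⟩
  inv_mem' := by
    rintro a ⟨i, hi⟩
    exact ⟨i, by rw [Subgroup.coe_inv, hi]; exact inv_eq_of_mul_eq_one_right (k4_sq i)⟩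

theorem kSub_card : Nat.card kSub = 4 := by
  let e : Fin 4 → kSub := fun i => ⟨⟨k4 i, mem_alt (k4_sign i)⟩, i, rfl⟩
  refine ((Nat.card_congr (Equiv.ofBijective e ⟨fun i j h => ?_, ?_⟩)).symm.trans ?_)
  · exact k4_inj i j (congrArg (fun x : kSub => ((x : ↥(alternatingGroup (Fin 5))) : Equiv.Perm (Fin 5))) h)
  · rintro ⟨σ, i, hi⟩
    exact ⟨i, Subtype.ext (Subtype.ext hi.symm)⟩
  · rw [Nat.card_eq_fintype_card, Fintype.card_fin]

variable {G : Type u} [Group G] [Finite G] {A N : Subgroup G}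
  {π : ↥N →* ↥(alternatingGroup (Fin 5))} {v : Fin 5 → G} {φ : (Fin 5 → Bool) → G}

theorem eq_one_of_odd_fix {n b c : G} (hn : Odd (orderOf n)) (hc : Commute n c) (hc2 : c * c = 1)
    (e : n * b * n⁻¹ = b * c) : c = 1 := by
  have h : ∀ j : ℕ, n ^ j * b * (n ^ j)⁻¹ = b * c ^ j := by
    intro j
    induction j with
    | zero => simp
    | succ j ih =>
      calc n ^ (j + 1) * b * (n ^ (j + 1))⁻¹ = n ^ j * (n * b * n⁻¹) * (n ^ j)⁻¹ := by
            rw [pow_succ]; group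
        _ = (n ^ j * b * (n ^ j)⁻¹) * (n ^ j * c * (n ^ j)⁻¹) := by rw [e]; group
        _ = b * c ^ (j + 1) := by rw [ih, (hc.pow_left j).eq, mul_inv_cancel_right, pow_succ, mul_assoc]
  have h1 := h (orderOf n)
  rw [pow_orderOf_eq_one, one_mul, inv_one, mul_one] at h1
  have h2 : c ^ orderOf n = 1 := mul_eq_left.1 h1.symm
  exact orderOf_eq_one_iff.1 (Nat.eq_one_of_dvd_coprimes (Nat.coprime_two_left.2 hn)
    (orderOf_dvd_of_pow_eq_one (by rw [pow_two, hc2])) (orderOf_dvd_of_pow_eq_one h2))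

/-- A Sylow subgroup over the four permutations with lifts of two of them. -/
structure Half (A N : Subgroup G) (π : ↥N →* ↥(alternatingGroup (Fin 5))) (v : Fin 5 → G)
    (φ : (Fin 5 → Bool) → G) (S : Subgroup G) (y z : G) : Prop where
  frame : Frame A N π v φ
  isP : IsPGroup 2 S
  le : S ≤ N
  ale : A ≤ S
  card : Nat.card S = 64
  image : ∀ (s : G) (hs : s ∈ N), s ∈ S → ∃ i, (π ⟨s, hs⟩ : Equiv.Perm (Fin 5)) = k4 i
  ymem : y ∈ S
  zmem : z ∈ S
  yy : y * y = 1
  zz : z * z = 1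
  yz : Commute y z
  ey : ∀ hy : y ∈ N, (π ⟨y, hy⟩ : Equiv.Perm (Fin 5)) = p1
  ez : ∀ hz : z ∈ N, (π ⟨z, hz⟩ : Equiv.Perm (Fin 5)) = p2

/-- The representatives. -/
def rep (y z : G) : Fin 4 → G := ![1, y, z, y * z]

namespace Half

variable {S : Subgroup G} {y z : G} (h : Half A N π v φ S y z)
include h

theorem rep_mem (i : Fin 4) : rep y z i ∈ S := by
  fin_cases i
  exacts [one_mem _, h.ymem, h.zmem, mul_mem h.ymem h.zmem]

theorem rep_apply (i : Fin 4) (hi : rep y z i ∈ N) :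
    (π ⟨rep y z i, hi⟩ : Equiv.Perm (Fin 5)) = k4 i := by
  fin_cases i
  · exact congrArg Subtype.val (map_one π)
  · exact h.ey _
  · exact h.ez _
  · show ((π (⟨y, h.le h.ymem⟩ * ⟨z, h.le h.zmem⟩) : ↥(alternatingGroup (Fin 5))) :
      Equiv.Perm (Fin 5)) = p1 * p2
    rw [map_mul, Subgroup.coe_mul, h.ey, h.ez]

theorem rep_commute (i j : Fin 4) : Commute (rep y z i) (rep y z j) := by
  have key : ∀ k, Commute y (rep y z k) ∧ Commute z (rep y z k) := by
    intro k
    fin_cases k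
    exacts [⟨Commute.one_right _, Commute.one_right _⟩, ⟨Commute.refl _, h.yz.symm⟩,
      ⟨h.yz, Commute.refl _⟩, ⟨(Commute.refl y).mul_right h.yz, h.yz.symm.mul_right (Commute.refl z)⟩]
  fin_cases i
  exacts [Commute.one_left _, (key j).1, (key j).2, (key j).1.mul_left (key j).2]

theorem rep_sq (i : Fin 4) : rep y z i * rep y z i = 1 := by
  fin_cases i
  · exact one_mul 1
  · exact h.yy
  · exact h.zz
  · show y * z * (y * z) = 1
    rw [h.yz.symm.mul_mul_mul_comm, h.yy, h.zz, one_mul]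

/-- Every element of the Sylow subgroup is an element of `A` times a representative. -/
theorem decomp {s : G} (hs : s ∈ S) : ∃ a ∈ A, ∃ i, s = a * rep y z i := by
  obtain ⟨i, hi⟩ := h.image s (h.le hs) hs
  refine ⟨s * (rep y z i)⁻¹, ?_, i, (inv_mul_cancel_right _ _).symm⟩
  have hN := mul_mem (h.le hs) (inv_mem (h.le (h.rep_mem i)))
  refine h.frame.mem_of_pGroup h.isP h.ale (mul_mem hs (inv_mem (h.rep_mem i))) hN ?_
  apply Subtype.ext
  rw [show (⟨s * (rep y z i)⁻¹, hN⟩ : N) = ⟨s, h.le hs⟩ * ⟨rep y z i, h.le (h.rep_mem i)⟩⁻¹ from rfl,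
    map_mul, map_inv, Subgroup.coe_mul, Subgroup.coe_inv, hi, h.rep_apply, mul_inv_cancel]
  rfl

theorem apply_decomp {a : G} (ha : a ∈ A) {i : Fin 4} (hn : a * rep y z i ∈ N) :
    (π ⟨a * rep y z i, hn⟩ : Equiv.Perm (Fin 5)) = k4 i := by
  rw [show (⟨a * rep y z i, hn⟩ : N) = ⟨a, h.frame.le ha⟩ * ⟨rep y z i, h.le (h.rep_mem i)⟩ from rfl,
    map_mul, h.frame.proj.apply_of_mem h.frame.setup ha, one_mul, h.rep_apply]

theorem commute_last {s : G} (hs : s ∈ S) : Commute s (v 4) := by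
  obtain ⟨i, hi⟩ := h.image s (h.le hs) hs
  exact (h.frame.apply_fix (h.le hs)).2 (by rw [hi]; exact k4_four i)

theorem commute_zpowers {s c : G} (hs : s ∈ S) (hc : c ∈ zpowers (v 4)) : Commute s c := by
  obtain ⟨k, rfl⟩ := hc
  exact (h.commute_last hs).zpow_right k

end Half

/-- The elements commuting with the first representative modulo the last involution. -/
def Half.top {S : Subgroup G} {y z : G} (h : Half A N π v φ S y z) : Subgroup G where
  carrier := {s | s ∈ S ∧ s * y * s⁻¹ * y ∈ zpowers (v 4)}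
  one_mem' := ⟨one_mem _, by rw [one_mul, inv_one, mul_one, h.yy]; exact one_mem _⟩
  mul_mem' := by
    rintro s t ⟨hs, hs'⟩ ⟨ht, ht'⟩
    refine ⟨mul_mem hs ht, ?_⟩
    have e : t * y * t⁻¹ = (t * y * t⁻¹ * y) * y := by rw [mul_assoc (t * y * t⁻¹), h.yy, mul_one]
    rw [show s * t * y * (s * t)⁻¹ * y = s * (t * y * t⁻¹) * s⁻¹ * y by group, e,
      show s * (t * y * t⁻¹ * y * y) * s⁻¹ * y =
        (s * (t * y * t⁻¹ * y) * s⁻¹) * (s * y * s⁻¹ * y) by group,
      (h.commute_zpowers hs ht').eq, mul_inv_cancel_right]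
    exact mul_mem ht' hs'
  inv_mem' := by
    rintro s ⟨hs, hs'⟩
    refine ⟨inv_mem hs, ?_⟩
    have hc := h.commute_zpowers (inv_mem hs) hs'
    have h1 : s⁻¹ * (s * y * s⁻¹ * y) * s = s * y * s⁻¹ * y := by
      rw [hc.eq, inv_mul_cancel_right]
    have hyi : y⁻¹ = y := inv_eq_of_mul_eq_one_right h.yy
    have e : s⁻¹ * y * s⁻¹⁻¹ * y = (s⁻¹ * (s * y * s⁻¹ * y) * s)⁻¹ := by
      calc s⁻¹ * y * s⁻¹⁻¹ * y = s⁻¹ * y⁻¹ * s * y⁻¹ := by rw [hyi, inv_inv]
        _ = (s⁻¹ * (s * y * s⁻¹ * y) * s)⁻¹ := by group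
    rw [e, h1]
    exact inv_mem hs'

namespace Half

variable {S : Subgroup G} {y z : G} (h : Half A N π v φ S y z)
include h

theorem top_le : h.top ≤ S := fun _ hs => hs.1

theorem top_le_N : h.top ≤ N := h.top_le.trans h.le

theorem mem_top_iff {a : G} (ha : a ∈ A) (i : Fin 4) :
    a * rep y z i ∈ h.top ↔ a ∈ h.frame.even := by
  have hm : a * rep y z i ∈ S := mul_mem (h.ale ha) (h.rep_mem i)
  have hy : (π ⟨y, h.le h.ymem⟩ : Equiv.Perm (Fin 5)) = k4 1 := h.ey _
  have e : a * rep y z i * y * (a * rep y z i)⁻¹ * y = a * (y * a * y⁻¹) := by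
    rw [show a * rep y z i * y * (a * rep y z i)⁻¹ * y =
        a * (rep y z i * y * (rep y z i)⁻¹) * a⁻¹ * y by group,
      show rep y z i * y * (rep y z i)⁻¹ = y by
        rw [show rep y z i * y = y * rep y z i from (h.rep_commute i 1).eq, mul_inv_cancel_right],
      h.frame.inv_eq ha, inv_eq_of_mul_eq_one_right h.yy]
    simp only [mul_assoc]
  constructor
  · rintro ⟨-, h'⟩
    rw [e] at h'
    exact (h.frame.moved (h.le h.ymem) (by decide) hy ha).1 h'
  · exact fun ha' => ⟨hm, e ▸ (h.frame.moved (h.le h.ymem) (by decide) hy ha).2 ha'⟩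

theorem mem_top_of_mem {a : G} (ha : a ∈ A) : a ∈ h.top ↔ a ∈ h.frame.even := by
  have := h.mem_top_iff ha 0
  rwa [show a * rep y z 0 = a from mul_one a] at this

theorem even_le_top : h.frame.even ≤ h.top := fun _ hb => (h.mem_top_of_mem (h.frame.even_le hb)).2 hb

theorem last_le_top : zpowers (v 4) ≤ h.top := h.frame.last_le_even.trans h.even_le_top

theorem rep_mem_top (i : Fin 4) : rep y z i ∈ h.top := by
  have := (h.mem_top_iff (one_mem A) i).2 (one_mem _)
  rwa [one_mul] at this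

theorem v_notMem_top {i : Fin 5} (hi : i ≠ 4) : v i ∉ h.top := fun e =>
  hi (h.frame.v_mem_even.1 ((h.mem_top_of_mem (h.frame.mem i)).1 e))

theorem mem_top_or {s : G} (hs : s ∈ S) : s ∈ h.top ∨ v 0 * s ∈ h.top := by
  obtain ⟨a, ha, i, rfl⟩ := h.decomp hs
  rcases h.frame.mem_or ha with h' | h'
  · exact Or.inl ((h.mem_top_iff ha i).2 h')
  · refine Or.inr ?_
    rw [← mul_assoc]
    exact (h.mem_top_iff (mul_mem (h.frame.mem 0) ha) i).2 h'

theorem top_decomp {t : G} (ht : t ∈ h.top) : ∃ b ∈ h.frame.even, ∃ i, t = b * rep y z i := by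
  obtain ⟨a, ha, i, rfl⟩ := h.decomp (h.top_le ht)
  exact ⟨a, (h.mem_top_iff ha i).1 ht, i, rfl⟩

theorem rep_conj_even {b : G} (hb : b ∈ h.frame.even) (i : Fin 4) :
    b * (rep y z i * b * (rep y z i)⁻¹) ∈ zpowers (v 4) :=
  h.frame.even_moved (h.le (h.rep_mem i)) (h.rep_apply i _) hb

theorem exists_mul_eq {t t' : G} (ht : t ∈ h.top) (ht' : t' ∈ h.top) :
    ∃ c ∈ zpowers (v 4), t * t' = c * (t' * t) := by
  have hmul : ∀ b ∈ h.frame.even, ∀ b' ∈ h.frame.even, ∀ i j,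
      ∃ c ∈ zpowers (v 4), b * rep y z i * (b' * rep y z j) = c * (b * b' * (rep y z i * rep y z j)) := by
    intro b hb b' hb' i j
    have hc := h.rep_conj_even hb' i
    refine ⟨_, hc, ?_⟩
    have hcb : Commute (b' * (rep y z i * b' * (rep y z i)⁻¹)) (b * b') :=
      h.frame.commute (h.frame.even_le (h.frame.last_le_even hc))
        (mul_mem (h.frame.even_le hb) (h.frame.even_le hb'))
    rw [← mul_assoc _ (b * b'), hcb.eq]
    calc b * rep y z i * (b' * rep y z j)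
        = b * (b' * b') * (rep y z i * b' * (rep y z i)⁻¹) * (rep y z i * rep y z j) := by
          rw [h.frame.sq (h.frame.even_le hb')]; group
      _ = _ := by group
  obtain ⟨b, hb, i, rfl⟩ := h.top_decomp ht
  obtain ⟨b', hb', j, rfl⟩ := h.top_decomp ht'
  obtain ⟨c, hc, e⟩ := hmul b hb b' hb' i j
  obtain ⟨c', hc', e'⟩ := hmul b' hb' b hb j i
  refine ⟨c * c'⁻¹, mul_mem hc (inv_mem hc'), ?_⟩
  rw [e, e', (h.frame.commute (h.frame.even_le hb') (h.frame.even_le hb)).eq, (h.rep_commute j i).eq]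
  group

theorem top_sq {t : G} (ht : t ∈ h.top) : t * t ∈ zpowers (v 4) := by
  obtain ⟨b, hb, i, rfl⟩ := h.top_decomp ht
  have e : b * rep y z i * (b * rep y z i) =
      b * (rep y z i * b * (rep y z i)⁻¹) * (rep y z i * rep y z i) := by group
  rw [e, h.rep_sq, mul_one]
  exact h.rep_conj_even hb i

theorem mem_even_of_centralizes {u : G} (hu : u ∈ h.top) (hc : ∀ b ∈ h.frame.even, Commute u b) :
    u ∈ h.frame.even :=
  (h.mem_top_of_mem (h.frame.mem_of_pGroup h.isP h.ale (h.top_le hu) (h.top_le_N hu)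
    (h.frame.apply_eq_one_of_even _ hc))).1 hu

/-- An outer element with square in the last subgroup lies in the top. -/
theorem mem_top_of_sq {s : G} (hs : s ∈ S) (hA : s ∉ A) (h2 : s * s ∈ zpowers (v 4)) : s ∈ h.top := by
  obtain ⟨a, ha, i, rfl⟩ := h.decomp hs
  have hi : i ≠ 0 := fun e => hA (by rw [e, show a * rep y z 0 = a from mul_one a]; exact ha)
  have e : a * rep y z i * (a * rep y z i) =
      a * (rep y z i * a * (rep y z i)⁻¹) * (rep y z i * rep y z i) := by group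
  rw [e, h.rep_sq, mul_one] at h2
  exact (h.mem_top_iff ha i).2 ((h.frame.moved (h.le (h.rep_mem i)) hi (h.rep_apply i _) ha).1 h2)

theorem even_invariant {n b : G} (hT : ∀ t ∈ h.top, n * t * n⁻¹ ∈ h.top) (hb : b ∈ h.frame.even) :
    n * b * n⁻¹ ∈ h.frame.even :=
  (h.mem_top_of_mem (h.frame.closed (h.frame.even_le hb) (h.top_le_N (hT _ (h.even_le_top hb))))).1
    (hT _ (h.even_le_top hb))

theorem card_last : Nat.card (zpowers (v 4)) = 2 := by
  rw [Nat.card_zpowers]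
  exact orderOf_eq_two h.frame.setup.sq (h.frame.mem 4) (h.frame.v_ne_one 4)

/-- An element of odd order normalizing the top and fixing one of its elements modulo the last
involution centralizes it. -/
theorem centralizes {n : G} (hv : Commute n (v 4)) (ho : Odd (orderOf n))
    (hT : ∀ t ∈ h.top, n * t * n⁻¹ ∈ h.top) {t₀ : G} (ht₀ : t₀ ∈ h.top)
    (hne : t₀ ∉ zpowers (v 4)) (hfix : t₀⁻¹ * (n * t₀ * n⁻¹) ∈ zpowers (v 4)) :
    ∀ t ∈ h.top, Commute n t := by
  have hcz : ∀ c ∈ zpowers (v 4), Commute n c := fun c ⟨k, hk⟩ => hk ▸ hv.zpow_right k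
  have hA2 : ∀ c ∈ zpowers (v 4), c * c = 1 :=
    fun c hc => h.frame.sq (h.frame.even_le (h.frame.last_le_even hc))
  -- an even element fixed modulo the last
  obtain ⟨b₀, hb₀, hb₀Z, hb₀f⟩ : ∃ b ∈ h.frame.even, b ∉ zpowers (v 4) ∧
      b⁻¹ * (n * b * n⁻¹) ∈ zpowers (v 4) := by
    by_cases ht : t₀ ∈ h.frame.even
    · exact ⟨t₀, ht, hne, hfix⟩
    obtain ⟨b, hb, i, rfl⟩ := h.top_decomp ht₀
    have hi : i ≠ 0 := fun e => ht (by rw [e, show b * rep y z 0 = b from mul_one b]; exact hb)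
    have hπ := h.apply_decomp (h.frame.even_le hb) (h.top_le_N ht₀) (i := i)
    set t := b * rep y z i
    have hC := (h.frame.proj.card_inf_centralizer h.frame.setup (h.top_le_N ht₀)
      (Subtype.ext (by rw [Subgroup.coe_mul, hπ]; exact k4_sq i))
      (fun e => k4_ne i hi (by rw [← hπ, e]; rfl))).1
    set C := A ⊓ centralizer ({t} : Set G)
    have hCB : C ≤ h.frame.even := fun a ha => (h.frame.moved (h.top_le_N ht₀) hi hπ ha.1).1 (by
      rw [(commute_of_mem_centralizer ha.2).symm.eq, mul_inv_cancel_right, h.frame.sq ha.1]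
      exact one_mem _)
    have hZC : zpowers (v 4) ≤ C := zpowers_le.2
      ⟨h.frame.mem 4, mem_centralizer_of_commute (h.commute_last (h.top_le ht₀)).symm⟩
    obtain ⟨a, haC, haZ⟩ : ∃ a ∈ C, a ∉ zpowers (v 4) := by
      by_contra hcon
      push Not at hcon
      have := Nat.le_of_dvd Nat.card_pos (card_dvd_of_le (hcon : C ≤ zpowers (v 4)))
      rw [hC, h.card_last] at this
      omega
    refine ⟨a, hCB haC, haZ, ?_⟩
    have hn : n * a * n⁻¹ ∈ C := by
      have hA' := h.frame.even_le (h.even_invariant hT (hCB haC))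
      refine ⟨hA', mem_centralizer_of_commute ?_⟩
      have h1 : Commute (n * a * n⁻¹) (n * t * n⁻¹) :=
        (commute_of_mem_centralizer haC.2).map (MulAut.conj n).toMonoidHom
      have h2 : Commute (n * a * n⁻¹) (t⁻¹ * (n * t * n⁻¹))⁻¹ :=
        (h.frame.commute hA' (h.frame.even_le (h.frame.last_le_even hfix))).inv_right
      have h3 := h1.mul_right h2
      rwa [show n * t * n⁻¹ * (t⁻¹ * (n * t * n⁻¹))⁻¹ = t by group] at h3
    have hidx : ((zpowers (v 4)).subgroupOf C).index = 2 := by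
      have e := ((zpowers (v 4)).subgroupOf C).card_mul_index
      rw [Nat.card_congr (subgroupOfEquivOfLe hZC).toEquiv, hC, h.card_last] at e
      omega
    have key := mul_mem_iff_of_index_two hidx (a := ⟨a, haC⟩) (b := ⟨_, hn⟩)
    simp only [mem_subgroupOf, Subgroup.coe_mul] at key
    rw [h.frame.inv_eq haC.1, key]
    refine iff_of_false haZ fun e => haZ ?_
    have h1 : n⁻¹ * (n * a * n⁻¹) * n = n * a * n⁻¹ := by
      rw [((hcz _ e).inv_left).eq, inv_mul_cancel_right]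
    rw [show n⁻¹ * (n * a * n⁻¹) * n = a by group] at h1
    rwa [← h1] at e
  have hcb₀ : Commute n b₀ := by
    have e := eq_one_of_odd_fix ho (hcz _ hb₀f) (hA2 _ hb₀f) (mul_inv_cancel_left b₀ _).symm
    exact Invol.commute_iff_conj_eq.2 (inv_mul_eq_one.1 e).symm
  -- so all even elements are fixed
  set F := h.frame.even ⊓ centralizer ({n} : Set G)
  have hall : ∀ b ∈ h.frame.even, Commute n b := by
    by_contra hcon
    push Not at hcon
    obtain ⟨b, hb, hnb⟩ := hcon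
    have hZF : zpowers (v 4) ≤ F :=
      fun c hc => ⟨h.frame.last_le_even hc, mem_centralizer_of_commute (hcz c hc).symm⟩
    have hF : Nat.card F = 4 := by
      have h1 : Nat.card F ∣ 2 ^ 3 := by
        rw [show (2 : ℕ) ^ 3 = Nat.card h.frame.even by rw [h.frame.even_card]; norm_num]
        exact card_dvd_of_le inf_le_left
      have h2 : 2 < Nat.card F := by
        rw [← h.card_last]
        by_contra hle
        exact hb₀Z ((eq_of_le_of_card_ge hZF (not_lt.1 hle)).symm.le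
          ⟨hb₀, mem_centralizer_of_commute hcb₀.symm⟩)
      have h3 : Nat.card F ≠ 8 := fun e => hnb
        (commute_of_mem_centralizer ((eq_of_le_of_card_ge (inf_le_left : F ≤ h.frame.even)
          (by rw [e, h.frame.even_card])).ge hb).2).symm
      obtain ⟨j, hj, e⟩ := (Nat.dvd_prime_pow Nat.prime_two).1 h1
      rw [e] at h2 h3 ⊢
      interval_cases j <;> simp_all
    have hidx : (F.subgroupOf h.frame.even).index = 2 := by
      have e := (F.subgroupOf h.frame.even).card_mul_index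
      rw [Nat.card_congr (subgroupOfEquivOfLe (inf_le_left : F ≤ h.frame.even)).toEquiv, hF,
        h.frame.even_card] at e
      omega
    have hb' := h.even_invariant hT hb
    have hbF : b ∉ F := fun e => hnb (commute_of_mem_centralizer e.2).symm
    have hb'F : n * b * n⁻¹ ∉ F := fun e => hnb (by
      have h1 := (commute_of_mem_centralizer e.2).map (MulAut.conj n⁻¹).toMonoidHom
      simp only [MulEquiv.coe_toMonoidHom, MulAut.conj_apply, inv_inv,
        show n⁻¹ * (n * b * n⁻¹) * n = b by group, show n⁻¹ * n * n = n by group] at h1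
      exact h1.symm)
    have key := mul_mem_iff_of_index_two hidx (a := ⟨b, hb⟩) (b := ⟨_, hb'⟩)
    simp only [mem_subgroupOf, Subgroup.coe_mul] at key
    have hcF := key.2 (iff_of_false hbF hb'F)
    rw [show b * (n * b * n⁻¹) = b⁻¹ * (n * b * n⁻¹) by
      rw [h.frame.inv_eq (h.frame.even_le hb)]] at hcF
    refine hnb ?_
    have e := eq_one_of_odd_fix ho (commute_of_mem_centralizer hcF.2).symm
      (h.frame.sq (h.frame.even_le hcF.1)) (mul_inv_cancel_left b _).symm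
    exact Invol.commute_iff_conj_eq.2 (inv_mul_eq_one.1 e).symm
  -- and then the whole top
  intro t ht
  set u := t⁻¹ * (n * t * n⁻¹)
  have hu : u ∈ h.top := mul_mem (inv_mem ht) (hT t ht)
  have hue : u ∈ h.frame.even := by
    refine h.mem_even_of_centralizes hu fun b hb => Invol.commute_iff_conj_eq.2 ?_
    obtain ⟨c, hc, e⟩ := h.exists_mul_eq ht (h.even_le_top hb)
    have hbb : t * b * t⁻¹ ∈ h.frame.even := by
      rw [e, show c * (b * t) * t⁻¹ = c * b by group]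
      exact mul_mem (h.frame.last_le_even hc) hb
    have h1 : n⁻¹ * b * n = b := by
      rw [((hall b hb).inv_left).eq, inv_mul_cancel_right]
    calc u * b * u⁻¹ = t⁻¹ * (n * (t * (n⁻¹ * b * n) * t⁻¹) * n⁻¹) * t := by simp only [u]; group
      _ = t⁻¹ * (t * b * t⁻¹) * t := by rw [h1, (hall _ hbb).eq, mul_inv_cancel_right]
      _ = b := by group
  have e := eq_one_of_odd_fix ho (hall u hue) (h.frame.sq (h.frame.even_le hue))
    (mul_inv_cancel_left t _).symm
  exact Invol.commute_iff_conj_eq.2 (inv_mul_eq_one.1 e).symm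

end Half

/-- The Sylow subgroup exists. -/
theorem Frame.exists_half (f : Frame A N π v φ) : ∃ S y z, Half A N π v φ S y z := by
  haveI : Fact (Nat.Prime 2) := ⟨Nat.prime_two⟩
  obtain ⟨y₀, hy₀, hy₀2, hy₀1⟩ := f.outside
  have hsq0 : (π ⟨y₀, hy₀⟩ : Equiv.Perm (Fin 5)) * (π ⟨y₀, hy₀⟩ : Equiv.Perm (Fin 5)) = 1 := by
    rw [← Subgroup.coe_mul, ← map_mul, show (⟨y₀, hy₀⟩ : N) * ⟨y₀, hy₀⟩ = 1 from Subtype.ext hy₀2,
      map_one]
    rfl
  obtain ⟨σ, hσ1, hσ⟩ := conj_five _ (Equiv.Perm.mem_alternatingGroup.1 (π ⟨y₀, hy₀⟩).2) hsq0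
    (fun e => hy₀1 (coe_eq_one.2 e)) p1 (k4_sign 1) (k4_sq 1) (k4_ne 1 (by decide))
  obtain ⟨⟨k, hk⟩, hkσ⟩ := f.proj.surj ⟨σ, mem_alt hσ1⟩
  set y := k * y₀ * k⁻¹ with hy_def
  have hy : y ∈ N := mul_mem (mul_mem hk hy₀) (inv_mem hk)
  have hyy : y * y = 1 := by
    rw [show y * y = k * (y₀ * y₀) * k⁻¹ by simp only [hy_def]; group, hy₀2]; group
  have ey : (π ⟨y, hy⟩ : Equiv.Perm (Fin 5)) = p1 := by
    rw [show (⟨y, hy⟩ : N) = ⟨k, hk⟩ * ⟨y₀, hy₀⟩ * ⟨k, hk⟩⁻¹ from rfl, map_mul, map_mul, map_inv, hkσ]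
    exact hσ
  -- the preimage of the four permutations
  set M : Subgroup ↥N := kSub.comap π
  have hAM : A.subgroupOf N ≤ M := fun a ha => ⟨0, by
    have ha' : (a : G) ∈ A := ha
    show (π ⟨(a : G), f.le ha'⟩ : Equiv.Perm (Fin 5)) = 1
    rw [f.proj.apply_of_mem f.setup ha']; rfl⟩
  have h64 : 64 ∣ Nat.card M := by
    rw [Core.card_comap_eq π f.proj.surj, kSub_card, show (64 : ℕ) = 16 * 4 from rfl]
    refine Nat.mul_dvd_mul ?_ (dvd_refl 4)
    rw [← f.setup.card16, ← Nat.card_congr (subgroupOfEquivOfLe f.le).toEquiv, f.proj.ker]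
    exact card_dvd_of_le le_sup_left
  haveI := f.setup.subgroupOf_normal
  have hK : IsPGroup 2 ↥(zpowers (⟨y, hy⟩ : N) ⊔ A.subgroupOf N : Subgroup ↥N) := by
    refine IsPGroup.to_sup_of_normal_right ?_
      ((isPGroup_of_sq f.setup.sq).comap_of_injective N.subtype N.subtype_injective)
    exact IsPGroup.of_card (n := 1) (by
      rw [Nat.card_zpowers, pow_one]
      exact orderOf_eq_prime (by rw [pow_two]; exact Subtype.ext hyy)
        (fun e => by rw [e, map_one] at ey; exact absurd ey (by decide +kernel)))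
  have hKM : zpowers (⟨y, hy⟩ : N) ⊔ A.subgroupOf N ≤ M :=
    sup_le (zpowers_le.2 ⟨1, ey⟩) hAM
  obtain ⟨R, hR⟩ :=
    (hK.comap_of_injective M.subtype M.subtype_injective).exists_le_sylow (p := 2)
  have hR64 : 64 ∣ Nat.card (R : Subgroup ↥M) :=
    R.pow_dvd_card_of_pow_dvd_card (n := 6) (by norm_num; exact h64)
  set S := ((R : Subgroup ↥M).map M.subtype).map N.subtype with hS
  have hSp : IsPGroup 2 S := (R.isPGroup'.map _).map _
  obtain ⟨S₁, hS₁⟩ := hSp.exists_le_sylow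
  have hS1card : Nat.card ↥(S₁ : Subgroup G) = 64 := by
    obtain ⟨S₂, -, -, h2, -⟩ := f.proj.exists_sylow f.setup
    rw [Sylow.card_eq_multiplicity, ← Sylow.card_eq_multiplicity S₂, h2]
  have hcard : Nat.card S = 64 := by
    refine Nat.dvd_antisymm ?_ ?_
    · rw [← hS1card]; exact card_dvd_of_le hS₁
    · rw [hS, card_map_of_injective N.subtype_injective, card_map_of_injective M.subtype_injective]
      exact hR64
  have hmem : ∀ x (hx : x ∈ N),
      (⟨x, hx⟩ : N) ∈ zpowers (⟨y, hy⟩ : N) ⊔ A.subgroupOf N → x ∈ S := fun x hx hm =>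
    ⟨⟨x, hx⟩, ⟨⟨⟨x, hx⟩, hKM hm⟩, hR hm, rfl⟩, rfl⟩
  have hSN : S ≤ N := map_subtype_le _
  have hAS : A ≤ S := fun a ha => hmem a (f.le ha) (mem_sup_right ha)
  have himg : ∀ (s : G) (hs : s ∈ N), s ∈ S → ∃ i, (π ⟨s, hs⟩ : Equiv.Perm (Fin 5)) = k4 i := by
    rintro s hs ⟨n, ⟨m, -, rfl⟩, rfl⟩
    exact m.2
  have hyS : y ∈ S := hmem y hy (mem_sup_left (mem_zpowers _))
  -- a lift of the second permutation
  have hsurj : ∃ (s : G) (hs : s ∈ N), s ∈ S ∧ (π ⟨s, hs⟩ : Equiv.Perm (Fin 5)) = p2 := by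
    set φ' := π.comp (inclusion hSN)
    have hrange : φ'.range ≤ kSub := by
      rintro _ ⟨s, rfl⟩
      exact himg s.1 (hSN s.2) s.2
    have hker : Nat.card φ'.ker ≤ 16 := by
      rw [← f.setup.card16, ← card_map_of_injective S.subtype_injective]
      refine Nat.le_of_dvd Nat.card_pos (card_dvd_of_le ?_)
      rintro _ ⟨s, hs, rfl⟩
      exact f.mem_of_pGroup hSp hAS s.2 (hSN s.2) hs
    have hprod : Nat.card φ'.ker * Nat.card φ'.range = 64 := by
      rw [← index_ker, card_mul_index, hcard]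
    have : φ'.range = kSub := eq_of_le_of_card_ge hrange (by
      rw [kSub_card]
      nlinarith)
    obtain ⟨s, hs⟩ := this.ge (show (⟨p2, mem_alt (k4_sign 2)⟩ : ↥(alternatingGroup (Fin 5))) ∈ kSub
      from ⟨2, rfl⟩)
    exact ⟨s.1, hSN s.2, s.2, congrArg Subtype.val hs⟩
  obtain ⟨s, hsN, hsS, es⟩ := hsurj
  -- make it commute
  set a := s * y * s⁻¹ * y
  have haS : a ∈ S := mul_mem (mul_mem (mul_mem hsS hyS) (inv_mem hsS)) hyS
  have haA : a ∈ A := f.mem_of_pGroup hSp hAS haS (hSN haS) (by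
    apply Subtype.ext
    rw [show (⟨a, hSN haS⟩ : N) = ⟨s, hsN⟩ * ⟨y, hy⟩ * ⟨s, hsN⟩⁻¹ * ⟨y, hy⟩ from rfl,
      map_mul, map_mul, map_mul, map_inv, Subgroup.coe_mul, Subgroup.coe_mul, Subgroup.coe_mul,
      Subgroup.coe_inv, es, ey, ← p1_p2, mul_inv_cancel_right]
    exact k4_sq 1)
  have hyi : y⁻¹ = y := inv_eq_of_mul_eq_one_right hyy
  have hay : a * y = s * y * s⁻¹ := by simp only [a]; rw [mul_assoc, hyy, mul_one]
  have hacy : a ∈ A ⊓ centralizer ({y} : Set G) := by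
    refine ⟨haA, mem_centralizer_of_commute ?_⟩
    have h2 : (a * y) * (a * y) = 1 := by
      rw [hay, show s * y * s⁻¹ * (s * y * s⁻¹) = s * (y * y) * s⁻¹ by group, hyy]; group
    have e1 := eq_inv_of_mul_eq_one_right h2
    rw [mul_inv_rev, hyi, f.inv_eq haA] at e1
    exact e1
  obtain ⟨b, hb, eb⟩ := (f.proj.card_inf_centralizer f.setup hy
    (Subtype.ext (by rw [Subgroup.coe_mul, ey]; exact k4_sq 1))
    (fun e => k4_ne 1 (by decide) (by rw [show k4 1 = p1 from rfl, ← ey, e]; rfl))).2 a hacy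
  set z₀ := b * s
  have hz₀y : Commute z₀ y := by
    rw [Invol.commute_iff_conj_eq]
    calc b * s * y * (b * s)⁻¹ = b * (s * y * s⁻¹) * b⁻¹ := by group
      _ = b * (b * (y * b * y⁻¹) * y) * b⁻¹ := by rw [← hay, eb]
      _ = (b * b) * y := by group
      _ = y := by rw [f.sq hb, one_mul]
  have hz₀S : z₀ ∈ S := mul_mem (hAS hb) hsS
  have ez₀ : (π ⟨z₀, hSN hz₀S⟩ : Equiv.Perm (Fin 5)) = p2 := by
    rw [show (⟨z₀, hSN hz₀S⟩ : N) = ⟨b, f.le hb⟩ * ⟨s, hsN⟩ from rfl, map_mul,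
      f.proj.apply_of_mem f.setup hb, one_mul, es]
  have hz2A : z₀ * z₀ ∈ A := f.mem_of_pGroup hSp hAS (mul_mem hz₀S hz₀S) (hSN (mul_mem hz₀S hz₀S)) (by
    apply Subtype.ext
    rw [show (⟨z₀ * z₀, hSN (mul_mem hz₀S hz₀S)⟩ : N) = ⟨z₀, hSN hz₀S⟩ * ⟨z₀, hSN hz₀S⟩ from rfl,
      map_mul, Subgroup.coe_mul, ez₀]
    exact k4_sq 2)
  have hw : ∀ {r : G} (hr : r ∈ N) {τ : Equiv.Perm (Fin 5)}, (π ⟨r, hr⟩ : Equiv.Perm (Fin 5)) = τ →
      r * (v 0 * v 1) * r⁻¹ = v (τ 0) * v (τ 1) := fun {r} hr τ e => by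
    rw [show r * (v 0 * v 1) * r⁻¹ = (r * v 0 * r⁻¹) * (r * v 1 * r⁻¹) by group, f.equiv r hr,
      f.equiv r hr, e]
  set w := v 0 * v 1
  have hwA : w ∈ A := mul_mem (f.mem 0) (f.mem 1)
  have hz2Z : z₀ * z₀ = 1 ∨ z₀ * z₀ = v 4 := by
    obtain ⟨t, ht⟩ := f.surj _ hz2A
    have h1 : φ t = φ (fun l => t (p1⁻¹ l)) := by
      rw [← ey, ← f.phi_conj hy, ht, ((hz₀y.mul_left hz₀y).symm).eq, mul_inv_cancel_right]
    have h2 : φ t = φ (fun l => t (p2⁻¹ l)) := by
      rw [← ez₀, ← f.phi_conj (hSN hz₀S), ht]; group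
    rw [← f.mem_last, ← ht, f.mem_last_iff]
    exact (by decide +kernel :
      ∀ t : Fin 5 → Bool, (t = (fun l => t (p1⁻¹ l)) ∨ t = fun l => !t (p1⁻¹ l)) →
        (t = (fun l => t (p2⁻¹ l)) ∨ t = fun l => !t (p2⁻¹ l)) → InLast t) t
      ((f.eq_iff _ _).1 h1) ((f.eq_iff _ _).1 h2)
  have hwy : Commute w y := by
    refine ((Invol.commute_iff_conj_eq).2 ?_).symm
    rw [hw hy ey]
    exact (f.commute (f.mem 1) (f.mem 0)).eq
  have hwz : w * (z₀ * w * z₀⁻¹) = v 4 := by
    rw [hw (hSN hz₀S) ez₀, ← f.single 4,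
      show w = φ (fun l => xor (decide (l = 0)) (decide (l = 1))) from (f.phi_pair 0 1).symm,
      ← f.phi_pair, ← f.xor_mul, f.eq_iff]
    exact (by decide +kernel)
  rcases hz2Z with h' | h'
  · exact ⟨S, y, z₀, f, hSp, hSN, hAS, hcard, himg, hyS, hz₀S, hyy, h', hz₀y.symm, fun _ => ey,
      fun _ => ez₀⟩
  · refine ⟨S, y, w * z₀, f, hSp, hSN, hAS, hcard, himg, hyS, mul_mem (hAS hwA) hz₀S, hyy, ?_,
      (hwy.mul_left hz₀y).symm, fun _ => ey, fun hz => ?_⟩
    · calc w * z₀ * (w * z₀) = w * (z₀ * w * z₀⁻¹) * (z₀ * z₀) := by group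
        _ = 1 := by rw [hwz, h', f.sq (f.mem 4)]
    · rw [show (⟨w * z₀, hz⟩ : N) = ⟨w, f.le hwA⟩ * ⟨z₀, hSN hz₀S⟩ from rfl, map_mul,
        f.proj.apply_of_mem f.setup hwA, one_mul, ez₀]

end Cfsg.Lib.EightThree
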