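import Cfsg.Agent.Lib.EightThree.Half

/-!
# The centralizer of the last involution

Its transfer to a Sylow subgroup gives a subgroup of index two whose quotient by the involution has
an elementary abelian Sylow subgroup of order sixteen and more than one class of involutions, so that
the covering theorem applies to it.
-/

set_option autoImplicit false
set_option linter.style.haveILetI false

namespace Cfsg.Lib.EightThree

open Subgroup Cfsg.Lib

universe u

variable {G : Type u} [Group G]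

theorem mem_normalizer_centralizer [Finite G] {H : Subgroup G} {g : G}
    (hg : g ∈ normalizer (H : Set G)) :
    g ∈ normalizer ((centralizer (H : Set G) : Subgroup G) : Set G) := by
  refine mem_normalizer_of_forall fun c hc => mem_centralizer_iff.2 fun a ha => ?_
  have h1 := mem_centralizer_iff.1 hc _ (conj_mem_of_mem_normalizer (inv_mem hg) ha)
  calc a * (g * c * g⁻¹) = g * (g⁻¹ * a * g⁻¹⁻¹ * c) * g⁻¹ := by group
    _ = g * (c * (g⁻¹ * a * g⁻¹⁻¹)) * g⁻¹ := by rw [h1]
    _ = g * c * g⁻¹ * a := by group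

theorem le_normalizer_map_of_normal {X : Subgroup G} (K : Subgroup ↥X) [K.Normal] :
    X ≤ normalizer ((K.map X.subtype : Subgroup G) : Set G) := fun g hg =>
  Subgroup.le_normalizer_map X.subtype ⟨⟨g, hg⟩, by
    rw [Subgroup.normalizer_eq_top_iff.2 inferInstance]; exact mem_top _, rfl⟩

theorem Covers.mul_left {O N : Subgroup G} {g x : G} (hx : x ∈ N) (hn : x ∈ normalizer (O : Set G))
    (h : Covers O N g) : Covers O N (x * g) := by
  obtain ⟨o, ho, n, hn', rfl⟩ := h
  exact ⟨x * o * x⁻¹, conj_mem_of_mem_normalizer hn ho, x * n, mul_mem hx hn', by group⟩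

theorem Covers.core_mul {O N : Subgroup G} {g o : G} (ho : o ∈ O) (h : Covers O N g) :
    Covers O N (o * g) := by
  obtain ⟨o', ho', n, hn, rfl⟩ := h
  exact ⟨o * o', mul_mem ho ho', n, hn, (mul_assoc _ _ _).symm⟩

theorem sum_last : ∀ s : Fin 5 → Bool,
    s = (fun l => xor (xor (decide (l = 0)) (decide (l = 1))) (xor (decide (l = 2)) (decide (l = 3)))) →
    s = fun l => !decide (l = (4 : Fin 5)) := by decide +kernel

variable [Finite G] {A N : Subgroup G} {π : ↥N →* ↥(alternatingGroup (Fin 5))} {v : Fin 5 → G}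
  {φ : (Fin 5 → Bool) → G} {S : Subgroup G} {y z : G}

/-- The kernel of the transfer. -/
theorem Half.exists_kernel (h : Half A N π v φ S y z) :
    ∃ X₁ : Subgroup G, X₁ ≤ centralizer ({v 4} : Set G) ∧
      centralizer ({v 4} : Set G) ≤ normalizer (X₁ : Set G) ∧ h.top ≤ X₁ ∧
      (∀ g ∈ centralizer ({v 4} : Set G), g ∈ X₁ ∨ v 0 * g ∈ X₁) ∧
      ∀ R : Subgroup G, R ≤ X₁ → IsPGroup 2 R → h.top ≤ R → R ≤ h.top := by
  classical
  haveI : Fact (Nat.Prime 2) := ⟨Nat.prime_two⟩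
  set X := centralizer ({v 4} : Set G) with hX
  have hSX : S ≤ X := fun s hs => mem_centralizer_of_commute (h.commute_last hs)
  have hSmax : ∀ R : Subgroup G, R ≤ X → IsPGroup 2 R → S ≤ R → R ≤ S := by
    intro R _ hR hle
    refine (eq_of_le_of_card_ge hle ?_).ge
    obtain ⟨S₁, hS₁⟩ := hR.exists_le_sylow
    obtain ⟨S₂, -, -, h2, -⟩ := h.frame.proj.exists_sylow h.frame.setup
    rw [h.card, ← h2, Sylow.card_eq_multiplicity S₂, ← Sylow.card_eq_multiplicity S₁]
    exact Nat.le_of_dvd Nat.card_pos (card_dvd_of_le hS₁)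
  obtain ⟨SX, hSXe⟩ := exists_sylow_subgroupOf hSX h.isP hSmax
  have hmemS : ∀ x : ↥X, x ∈ (SX : Subgroup ↥X) ↔ (x : G) ∈ S := fun x => by
    rw [hSXe, mem_subgroupOf]
  have hidx : (h.top.subgroupOf S).index = 2 := by
    refine index_eq_two_iff.2 ⟨⟨v 0, h.ale (h.frame.mem 0)⟩, fun b => ?_⟩
    simp only [mem_subgroupOf, Subgroup.coe_mul]
    have hv := h.v_notMem_top (i := 0) (by decide)
    rcases h.mem_top_or (inv_mem b.2) with hb | hb
    · exact Or.inr ⟨inv_mem_iff.1 hb, fun e => hv ((mul_mem_cancel_left (inv_mem_iff.1 hb)).1 e)⟩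
    · have hb' : (b : G) * v 0 ∈ h.top := by
        have := inv_mem hb
        rwa [mul_inv_rev, inv_inv, h.frame.inv_eq (h.frame.mem 0)] at this
      exact Or.inl ⟨hb', fun e => hv ((mul_mem_cancel_left e).1 hb')⟩
  let χ : (SX : Subgroup ↥X) →* ℤˣ :=
    MonoidHom.mk' (fun s => if ((s : ↥X) : G) ∈ h.top then 1 else -1) (fun a b => by
      have key := mul_mem_iff_of_index_two hidx
        (a := ⟨((a : ↥X) : G), (hmemS _).1 a.2⟩) (b := ⟨((b : ↥X) : G), (hmemS _).1 b.2⟩)
      simp only [mem_subgroupOf, Subgroup.coe_mul] at key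
      by_cases ha : ((a : ↥X) : G) ∈ h.top <;> by_cases hb : ((b : ↥X) : G) ∈ h.top <;>
        · simp only [Subgroup.coe_mul] at key ⊢
          simp [ha, hb, key])
  set τ := MonoidHom.transfer χ
  set X₁ := τ.ker.map X.subtype
  have hmem : ∀ (g : G) (hg : g ∈ X), g ∈ X₁ ↔ τ ⟨g, hg⟩ = 1 := fun g hg =>
    ⟨fun ⟨x, hx, e⟩ => by rw [show (⟨g, hg⟩ : ↥X) = x from Subtype.ext e.symm]; exact hx,
      fun e => ⟨⟨g, hg⟩, e, rfl⟩⟩
  have hvX : ∀ k, v k ∈ X := fun k => h.frame.le_centralizer (h.frame.mem 4) (h.frame.mem k)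
  have hv : ∀ k, k ≠ 4 → τ ⟨v k, hvX k⟩ = -1 := by
    intro k hk
    refine transfer_sign SX χ (-1) _ (Subtype.ext (h.frame.sq (h.frame.mem k))) fun g hg => ?_
    show (if (g : G)⁻¹ * v k * (g : G) ∈ h.top then (1 : ℤˣ) else -1) = -1
    have hgS : (g : G)⁻¹ * v k * (g : G) ∈ S := (hmemS _).1 hg
    have e0 : (g : G)⁻¹ * v k * (g : G) = (g : G)⁻¹ * v k * ((g : G)⁻¹)⁻¹ := by rw [inv_inv]
    have hA : (g : G)⁻¹ * v k * (g : G) ∈ A := by
      rw [e0]
      exact h.frame.closed (h.frame.mem k) (by rw [← e0]; exact h.le hgS)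
    obtain ⟨j, hj⟩ := h.frame.conj_v hA (isConj_iff.2 ⟨(g : G)⁻¹, e0.symm⟩ : IsConj (v k) _)
    rw [hj]
    refine if_neg (h.v_notMem_top fun e => hk (h.frame.v_inj ?_))
    calc v k = (g : G) * v j * (g : G)⁻¹ := by rw [← hj]; group
      _ = v 4 := by rw [e, (commute_of_mem_centralizer g.2).eq, mul_inv_cancel_right]
  have hu : ∀ u ∈ S, u * u = 1 → u ∉ A → u ∈ X₁ := by
    intro u hu hu2 huA
    refine (hmem u (hSX hu)).2 (transfer_sign SX χ 1 _ (Subtype.ext hu2) fun g hg => ?_)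
    show (if (g : G)⁻¹ * u * (g : G) ∈ h.top then (1 : ℤˣ) else -1) = 1
    have hgS : (g : G)⁻¹ * u * (g : G) ∈ S := (hmemS _).1 hg
    have hw2 : (g : G)⁻¹ * u * g * ((g : G)⁻¹ * u * g) = 1 := by
      rw [show (g : G)⁻¹ * u * g * ((g : G)⁻¹ * u * g) = (g : G)⁻¹ * (u * u) * g by group, hu2]; group
    refine if_pos (h.mem_top_of_sq hgS (fun hA => ?_) (by rw [hw2]; exact one_mem _))
    by_cases h1 : (g : G)⁻¹ * u * g = 1
    · exact huA (by rw [conj_eq_one_iff.1 (by rwa [inv_inv] : (g : G)⁻¹ * u * ((g : G)⁻¹)⁻¹ = 1)]; exact one_mem _)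
    · exact h.frame.class_out _ hA h1 u (h.le hu) hu2
        (fun e => huA (h.frame.proj.mem_of_involution h.frame.setup (h.le hu) e hu2))
        (isConj_iff.2 ⟨(g : G), by group⟩)
  have hpair : ∀ i j, i ≠ 4 → j ≠ 4 → v i * v j ∈ X₁ := fun i j hi hj => by
    rw [hmem _ (mul_mem (hvX i) (hvX j)),
      show (⟨v i * v j, mul_mem (hvX i) (hvX j)⟩ : ↥X) = ⟨v i, hvX i⟩ * ⟨v j, hvX j⟩ from rfl,
      map_mul, hv i hi, hv j hj, Int.units_mul_self]
  have hrepA : ∀ i : Fin 4, i ≠ 0 → rep y z i ∉ A := fun i hi e => k4_ne i hi (by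
    rw [← h.rep_apply i (h.le (h.rep_mem i)), h.frame.proj.apply_of_mem h.frame.setup e]; rfl)
  have htop : h.top ≤ X₁ := by
    intro t ht
    obtain ⟨b, hb, i, rfl⟩ := h.top_decomp ht
    refine mul_mem ?_ ?_
    · rcases h.frame.even_cases hb with rfl | rfl | ⟨i, j, hi, hj, -, rfl⟩
      · exact one_mem _
      · rw [← h.frame.single 4, ← h.frame.phi_not, ← sum_last _ rfl, h.frame.xor_mul, h.frame.phi_pair,
          h.frame.phi_pair]
        exact mul_mem (hpair 0 1 (by decide) (by decide)) (hpair 2 3 (by decide) (by decide))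
      · exact hpair i j hi hj
    · by_cases hi : i = 0
      · subst hi; exact one_mem _
      · exact hu _ (h.rep_mem i) (h.rep_sq i) (hrepA i hi)
  have hor : ∀ g ∈ X, g ∈ X₁ ∨ v 0 * g ∈ X₁ := by
    intro g hg
    rcases Int.units_eq_one_or (τ ⟨g, hg⟩) with e | e
    · exact Or.inl ((hmem g hg).2 e)
    · refine Or.inr ((hmem _ (mul_mem (hvX 0) hg)).2 ?_)
      rw [show (⟨v 0 * g, mul_mem (hvX 0) hg⟩ : ↥X) = ⟨v 0, hvX 0⟩ * ⟨g, hg⟩ from rfl, map_mul,
        hv 0 (by decide), e, Int.units_mul_self]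
  have hnorm : X ≤ normalizer (X₁ : Set G) := le_normalizer_map_of_normal τ.ker
  have hX1X : X₁ ≤ X := map_subtype_le _
  refine ⟨X₁, hX1X, hnorm, htop, hor, fun R hRX hR hle => ?_⟩
  have hSX1 : ∀ s ∈ S, s ∈ X₁ → s ∈ h.top := by
    intro s hs hs1
    rcases h.mem_top_or hs with h1 | h1
    · exact h1
    · exfalso
      have h2 : v 0 ∈ X₁ := (mul_mem_cancel_right hs1).1 (htop h1)
      rw [hmem _ (hvX 0), hv 0 (by decide)] at h2
      exact absurd h2 (by decide)
  obtain ⟨c, hc, hcR⟩ := exists_conj_le hSX h.isP hSmax (hRX.trans hX1X) hR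
  have hmap : R.map (MulAut.conj c).toMonoidHom ≤ h.top := by
    rintro _ ⟨r, hr, rfl⟩
    exact hSX1 _ (hcR r hr) (conj_mem_of_mem_normalizer (hnorm hc) (hRX hr))
  refine (eq_of_le_of_card_ge hle ?_).ge
  rw [← card_map_of_injective (f := (MulAut.conj c).toMonoidHom) (MulAut.conj c).injective]
  exact Nat.le_of_dvd Nat.card_pos (card_dvd_of_le hmap)

set_option maxHeartbeats 1600000 in
/-- The quotient of the kernel by the last involution satisfies the covering theorem. -/
theorem Half.kernel_covers (h : Half A N π v φ S y z) {X₁ : Subgroup G}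
    (hX₁ : X₁ ≤ centralizer ({v 4} : Set G)) (htop : h.top ≤ X₁)
    (hmax : ∀ R : Subgroup G, R ≤ X₁ → IsPGroup 2 R → h.top ≤ R → R ≤ h.top) :
    ∀ g ∈ X₁, ∃ o ∈ PNil.coreOf X₁, ∃ n ∈ X₁, (∀ t ∈ h.top, n * t * n⁻¹ ∈ h.top) ∧ g = o * n := by
  haveI : Fact (Nat.Prime 2) := ⟨Nat.prime_two⟩
  set Z := zpowers (v 4)
  have hZX : Z ≤ X₁ := h.last_le_top.trans htop
  have hZ2 : ∀ c ∈ Z, c * c = 1 :=
    fun c hc => h.frame.sq (h.frame.even_le (h.frame.last_le_even hc))
  have hcen : ∀ x ∈ X₁, ∀ c ∈ Z, Commute x c := by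
    rintro x hx c ⟨k, rfl⟩
    exact (commute_of_mem_centralizer (hX₁ hx)).zpow_right k
  haveI : (Z.subgroupOf X₁).Normal := ⟨fun c hc x => by
    rw [mem_subgroupOf] at hc ⊢
    push_cast
    rwa [(hcen x x.2 c hc).eq, mul_inv_cancel_right]⟩
  set q := QuotientGroup.mk' (Z.subgroupOf X₁)
  have hqs : Function.Surjective q := QuotientGroup.mk'_surjective _
  have hq1 : ∀ x : ↥X₁, q x = 1 ↔ (x : G) ∈ Z := fun x => QuotientGroup.eq_one_iff x
  set A' := (h.top.subgroupOf X₁).map q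
  set N' := normalizer (A' : Set (↥X₁ ⧸ Z.subgroupOf X₁))
  have hA' : ∀ x : ↥X₁, q x ∈ A' ↔ (x : G) ∈ h.top := by
    refine fun x => ⟨?_, fun hx => ⟨x, hx, rfl⟩⟩
    rintro ⟨t, ht, e⟩
    have h1 : ((t⁻¹ * x : ↥X₁) : G) ∈ h.top := h.last_le_top ((hq1 _).1 (by
      rw [map_mul, map_inv, e, inv_mul_cancel]))
    have := mul_mem (show (t : G) ∈ h.top from ht) h1
    rwa [← Subgroup.coe_mul, mul_inv_cancel_left] at this
  have hA2 : ∀ a ∈ A', a * a = 1 := by
    rintro _ ⟨t, ht, rfl⟩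
    rw [← map_mul]
    exact (hq1 _).2 (h.top_sq ht)
  have hAp : IsPGroup 2 A' := isPGroup_of_sq hA2
  have hAmax : ∀ R : Subgroup (↥X₁ ⧸ Z.subgroupOf X₁), IsPGroup 2 R → A' ≤ R → R ≤ A' := by
    intro R hR hle r hr
    obtain ⟨x, rfl⟩ := hqs r
    have hk : IsPGroup 2 q.ker := by
      rw [QuotientGroup.ker_mk']
      exact (isPGroup_of_sq hZ2).comap_of_injective X₁.subtype X₁.subtype_injective
    refine (hA' x).2 (hmax ((R.comap q).map X₁.subtype) (map_subtype_le _)
      ((hR.comap_of_ker_isPGroup q hk).map _) (fun t ht => ?_) ⟨x, hr, rfl⟩)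
    exact ⟨⟨t, htop ht⟩, hle ((hA' _).2 ht), rfl⟩
  have hA2mem : ∀ x ∈ N', IsPGroup 2 (zpowers x) → x ∈ A' := fun x hx hp =>
    hAmax (zpowers x ⊔ A') (hp.to_sup_of_normal_right' hAp (zpowers_le.2 hx)) le_sup_right
      (mem_sup_left (mem_zpowers x))
  have hfix : ∀ n ∈ N', ∀ a ∈ A', a ≠ 1 → Commute n a → ∀ b ∈ A', Commute n b := by
    intro n hn a ha ha1 hna b hb
    obtain ⟨m, rfl⟩ := hqs n
    obtain ⟨s, ⟨i, rfl⟩, t, ⟨j, rfl⟩, e, hs2, hto⟩ := exists_parts m
    dsimp only at e hs2 hto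
    have hsA : q (m ^ i) ∈ A' := hA2mem _ (by rw [map_zpow]; exact zpow_mem hn i) (by
      rw [← MonoidHom.map_zpowers]; exact hs2.map q)
    rw [e, map_mul]
    refine (commute_of_sq hA2 hsA hb).mul_left ?_
    obtain ⟨b, hb', rfl⟩ := hb
    obtain ⟨a, ha', rfl⟩ := ha
    have htN : ∀ t ∈ h.top, ((m ^ j : ↥X₁) : G) * t * ((m ^ j : ↥X₁) : G)⁻¹ ∈ h.top := by
      intro t ht
      have h1 : q (m ^ j) * q ⟨t, htop ht⟩ * (q (m ^ j))⁻¹ ∈ A' :=
        conj_mem_of_mem_normalizer (by rw [map_zpow]; exact zpow_mem hn j) ((hA' _).2 ht)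
      rw [← map_mul, ← map_inv, ← map_mul] at h1
      exact (hA' _).1 h1
    have hzfix : (a : G)⁻¹ * (((m ^ j : ↥X₁) : G) * a * ((m ^ j : ↥X₁) : G)⁻¹) ∈ Z := by
      have h1 : Commute (q (m ^ j)) (q a) := by rw [map_zpow]; exact hna.zpow_left j
      have h2 : q (a⁻¹ * (m ^ j * a * (m ^ j)⁻¹)) = 1 := by
        rw [map_mul, map_inv, map_mul, map_mul, map_inv, h1.eq, mul_inv_cancel_right, inv_mul_cancel]
      exact (hq1 _).1 h2
    have hc := h.centralizes (commute_of_mem_centralizer (hX₁ (m ^ j).2))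
      (by rw [orderOf_coe]; exact hto) htN ha'
      (fun e => ha1 ((hq1 a).2 e)) hzfix b hb'
    exact Commute.map (show Commute (m ^ j) b from Subtype.ext hc.eq) q
  have hAN : A' ≤ N' := Subgroup.le_normalizer
  have hcard : 8 ≤ Nat.card A' := by
    -- the top has order at least sixteen
    have h16 : 16 ≤ Nat.card h.top := by
      obtain ⟨k, hk⟩ := IsPGroup.iff_card.1 (h.isP.to_le h.top_le)
      have h1 : (2 : ℕ) ^ 3 < 2 ^ k := by
        rw [← hk, show (2 : ℕ) ^ 3 = 8 from rfl, ← h.frame.even_card]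
        by_contra hle
        have hy : y ∈ h.frame.even :=
          (eq_of_le_of_card_ge h.even_le_top (not_lt.1 hle)).ge (h.rep_mem_top 1)
        refine k4_ne 1 (by decide) ?_
        rw [show k4 1 = p1 from rfl, ← h.ey (h.le h.ymem),
          h.frame.proj.apply_of_mem h.frame.setup (h.frame.even_le hy)]
        rfl
      have h2 : 3 < k := (Nat.pow_lt_pow_iff_right (by norm_num)).1 h1
      calc 16 = 2 ^ 4 := rfl
        _ ≤ 2 ^ k := Nat.pow_le_pow_right two_pos h2
        _ = _ := hk.symm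
    set ψ := q.comp (inclusion htop)
    have hr : ψ.range = A' := by
      refine le_antisymm ?_ ?_
      · rintro _ ⟨t, rfl⟩
        exact (hA' _).2 t.2
      · rintro _ ⟨t, ht, rfl⟩
        exact ⟨⟨t, ht⟩, rfl⟩
    have hk : Nat.card ψ.ker ≤ 2 := by
      rw [← h.card_last, ← card_map_of_injective h.top.subtype_injective]
      refine Nat.le_of_dvd Nat.card_pos (card_dvd_of_le ?_)
      rintro _ ⟨t, ht, rfl⟩
      exact (hq1 _).1 (MonoidHom.mem_ker.1 ht)
    have hp : Nat.card ψ.ker * Nat.card ψ.range = Nat.card h.top := by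
      rw [← index_ker, card_mul_index]
    rw [← hr]
    nlinarith
  have hconf : Conf A' N' := by
    refine ⟨hA2, hcard, hAN, le_rfl, le_rfl, ?_, ?_, ?_, ?_, ?_, ?_⟩
    · exact ⟨⟨A', hAp, fun {Q} hQ hle => le_antisymm (hAmax Q hQ hle) hle⟩, hAN, le_rfl⟩
    · intro a ha g hg
      refine hA2mem _ hg ?_
      have := hAp.map (MulAut.conj g).toMonoidHom
      exact this.to_le (zpowers_le.2 ⟨a, ha, rfl⟩)
    · intro a ha ha1 g hg
      set C := centralizer ({a} : Set (↥X₁ ⧸ Z.subgroupOf X₁))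
      have hAC : A' ≤ C := fun b hb => mem_centralizer_of_commute (commute_of_sq hA2 hb ha)
      obtain ⟨o, ho, p, hp, e⟩ := covers_of_central hAC hAp (fun R _ hR hle => hAmax R hR hle)
        (fun n hn hnA => hfix n (mem_normalizer_of_forall hnA) a ha ha1 (commute_of_mem_centralizer hn))
        g hg
      exact ⟨o, ho, p, hAN hp, e⟩
    · intro c hc hodd
      set C := centralizer (A' : Set (↥X₁ ⧸ Z.subgroupOf X₁))
      have hAC : A' ≤ C := fun b hb => mem_centralizer_iff.2 fun a ha => (commute_of_sq hA2 ha hb).eq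
      have hcov := covers_of_central hAC hAp (fun R _ hR hle => hAmax R hR hle)
        (fun n hn _ p hp => (mem_centralizer_iff.1 hn p hp).symm)
      exact PNil.le_coreOf ((PNil.coreOf_le C).trans (centralizer_le_normalizer _))
        (fun n hn => normalizer_le_normalizer_coreOf C (mem_normalizer_centralizer hn))
        (PNil.coreOf_odd C) (mem_coreOf_of_odd hAC hAp hcov hc hodd)
    · intro x hx hx2
      have hxA : x ∈ A' := hA2mem x hx (IsPGroup.of_card (n := 1) (by rw [Nat.card_zpowers, hx2, pow_one]))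
      exact ⟨x, hxA, Invol.ne_one hx2, Commute.refl x,
        ⟨A', le_rfl, by omega, fun e he => commute_of_sq hA2 he hxA⟩,
        fun g hg => ⟨1, one_mem _, g, hg, (one_mul g).symm⟩⟩
    · set w := v 0 * v 1
      have hwB : w ∈ h.frame.even := h.frame.pair_mem_even (by decide) (by decide)
      have hw0 : w ∉ Z := by
        rw [h.frame.mem_last]
        rintro (e | e)
        · exact absurd (h.frame.v_inj ((eq_inv_of_mul_eq_one_left e).trans (h.frame.inv_eq (h.frame.mem 1))))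
            (by decide)
        · exact h.frame.class_vw 4 0 1 (by decide) (by rw [← e])
      have hy0 : y ∉ Z := fun e => by
        have hyA : y ∈ A := h.frame.even_le (h.frame.last_le_even e)
        refine k4_ne 1 (by decide) ?_
        rw [show k4 1 = p1 from rfl, ← h.ey (h.le h.ymem), h.frame.proj.apply_of_mem h.frame.setup hyA]
        rfl
      set w' : ↥X₁ := ⟨w, htop (h.even_le_top hwB)⟩
      set y' : ↥X₁ := ⟨y, htop (h.rep_mem_top 1)⟩
      refine ⟨q w', q y', ?_, ?_, ?_⟩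
      · exact orderOf_eq_prime (by rw [pow_two]; exact hA2 _ ((hA' _).2 (h.even_le_top hwB)))
          (fun e => hw0 ((hq1 w').1 e))
      · exact orderOf_eq_prime (by rw [pow_two]; exact hA2 _ ((hA' _).2 (h.rep_mem_top 1)))
          (fun e => hy0 ((hq1 y').1 e))
      intro hc
      obtain ⟨g', hg'⟩ := isConj_iff.1 hc
      obtain ⟨g, rfl⟩ := hqs g'
      set u : G := (g : G) * w * (g : G)⁻¹ with hu
      have hcz : y⁻¹ * u ∈ Z := by
        have h1 : q (y'⁻¹ * (g * w' * g⁻¹)) = 1 := by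
          rw [map_mul, map_mul, map_mul, map_inv, map_inv, hg', inv_mul_cancel]
        exact (hq1 _).1 h1
      have huS : u ∈ h.top := by
        have := mul_mem (h.rep_mem_top 1) (h.last_le_top hcz)
        rwa [show rep y z 1 * (y⁻¹ * u) = u from mul_inv_cancel_left y u] at this
      have hu2 : u * u = 1 := by
        rw [show u * u = (g : G) * (w * w) * (g : G)⁻¹ by simp only [hu]; group,
          h.frame.sq (h.frame.even_le hwB)]
        group
      refine h.frame.class_out w (h.frame.even_le hwB) (fun e => hw0 (by rw [e]; exact one_mem _))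
        u (h.top_le_N huS) hu2 (fun e => ?_) (isConj_iff.2 ⟨(g : G), rfl⟩)
      have huA := h.frame.proj.mem_of_involution h.frame.setup (h.top_le_N huS) e hu2
      have hyA : y ∈ A := by
        have := mul_mem huA (inv_mem (h.frame.even_le (h.frame.last_le_even hcz)))
        rwa [mul_inv_rev, inv_inv, ← mul_assoc, mul_inv_cancel, one_mul] at this
      refine k4_ne 1 (by decide) ?_
      rw [show k4 1 = p1 from rfl, ← h.ey (h.le h.ymem), h.frame.proj.apply_of_mem h.frame.setup hyA]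
      rfl
  intro g hg
  obtain ⟨o, ho, n, hn, e⟩ := hconf.covers (q ⟨g, hg⟩)
  obtain ⟨o₁, rfl⟩ := hqs o
  obtain ⟨c, hc, o', ho', e'⟩ := exists_mul_core hZX hZ2 hcen o₁.2 ho
  have ho'X : o' ∈ X₁ := PNil.coreOf_le X₁ ho'
  have hqo : q ⟨o', ho'X⟩ = q o₁ := by
    rw [show o₁ = ⟨c, hZX hc⟩ * ⟨o', ho'X⟩ from Subtype.ext e', map_mul, (hq1 ⟨c, hZX hc⟩).2 hc, one_mul]
  refine ⟨o', ho', o'⁻¹ * g, mul_mem (inv_mem ho'X) hg, fun t ht => ?_, (mul_inv_cancel_left _ _).symm⟩
  have h1 : q (⟨o', ho'X⟩⁻¹ * ⟨g, hg⟩) = n := by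
    rw [map_mul, map_inv, hqo, e, inv_mul_cancel_left]
  have h2 := conj_mem_of_mem_normalizer (H := A') hn ((hA' ⟨t, htop ht⟩).2 ht)
  rw [← h1, ← map_mul, ← map_inv, ← map_mul] at h2
  exact (hA' _).1 h2

/-- The normalizer covers the centralizer of the last involution. -/
theorem Frame.covers_last (f : Frame A N π v φ) :
    ∀ g ∈ centralizer ({v 4} : Set G), Covers (PNil.coreOf (centralizer ({v 4} : Set G))) N g := by
  obtain ⟨S, y, z, h⟩ := f.exists_half
  obtain ⟨X₁, hX₁, hnorm, htop, hor, hmax⟩ := h.exists_kernel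
  set X := centralizer ({v 4} : Set G)
  set B := h.frame.even
  have hcov := h.kernel_covers hX₁ htop hmax
  have hO : PNil.coreOf X₁ ≤ PNil.coreOf X := PNil.le_coreOf ((PNil.coreOf_le X₁).trans hX₁)
    (hnorm.trans (normalizer_le_normalizer_coreOf X₁)) (PNil.coreOf_odd X₁)
  -- the centralizer of the even elements
  set C := centralizer (B : Set G)
  have hAC : A ≤ C := fun a ha => mem_centralizer_iff.2 fun b hb =>
    (f.commute (h.frame.even_le hb) ha).eq
  have hCX : C ≤ X := fun c hc => mem_centralizer_of_commute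
    (Commute.symm (mem_centralizer_iff.1 hc _ (h.frame.v_mem_even.2 rfl)))
  have hAmax : ∀ R : Subgroup G, R ≤ C → IsPGroup 2 R → A ≤ R → R ≤ A := fun R hRC hR hle r hr =>
    f.mem_of_pGroup hR hle hr (f.pGroup_le hR hle hr)
      (h.frame.apply_eq_one_of_even _ fun b hb => (mem_centralizer_iff.1 (hRC hr) b hb).symm)
  have hcovC := covers_of_central hAC (isPGroup_of_sq f.setup.sq) hAmax fun n hn hnA a ha => by
    have hnN : n ∈ N := f.setup.norm ▸ mem_normalizer_of_forall hnA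
    exact f.proj.commute_of_apply_eq_one f.setup hnN
      (h.frame.apply_eq_one_of_even hnN fun b hb => (mem_centralizer_iff.1 hn b hb).symm) ha
  set K := PNil.coreOf C
  have hKn : ∀ x, (∀ b ∈ B, x * b * x⁻¹ ∈ B) → x ∈ normalizer (K : Set G) := fun x hx =>
    normalizer_le_normalizer_coreOf C (mem_normalizer_centralizer (mem_normalizer_of_forall hx))
  have hv0B : ∀ b ∈ B, v 0 * b * (v 0)⁻¹ ∈ B := fun b hb => by
    rwa [(f.commute (f.mem 0) (h.frame.even_le hb)).eq, mul_inv_cancel_right]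
  have hv0X : v 0 ∈ X := f.le_centralizer (f.mem 4) (f.mem 0)
  have hKO : K ≤ PNil.coreOf X := by
    refine le_coreOf_of_sup ((PNil.coreOf_le C).trans hCX) (PNil.coreOf_odd C) fun g hg => ?_
    have hv0 : v 0 ∈ normalizer ((PNil.coreOf X ⊔ K : Subgroup G) : Set G) :=
      mem_normalizer_sup (PNil.le_normalizer_coreOf X hv0X) (hKn _ hv0B)
    have key : ∀ x ∈ X₁, x ∈ normalizer ((PNil.coreOf X ⊔ K : Subgroup G) : Set G) := fun x hx => by
      obtain ⟨o, ho, n, hn, hnT, rfl⟩ := hcov x hx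
      exact mul_mem (Subgroup.le_normalizer (mem_sup_left (hO ho)))
        (mem_normalizer_sup (PNil.le_normalizer_coreOf X (hX₁ hn))
          (hKn n fun b hb => h.even_invariant hnT hb))
    rcases hor g hg with h1 | h1
    · exact key g h1
    · have := mul_mem (inv_mem hv0) (key _ h1)
      rwa [inv_mul_cancel_left] at this
  have hX₁cov : ∀ g ∈ X₁, Covers (PNil.coreOf X) N g := by
    intro g hg
    obtain ⟨o, ho, n, hn, hnT, rfl⟩ := hcov g hg
    refine Covers.core_mul (hO ho) ?_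
    obtain ⟨c, hc, hcA⟩ := exists_conj_le hAC (isPGroup_of_sq f.setup.sq) hAmax
      (K := A.map (MulAut.conj n).toMonoidHom) (by
        rintro _ ⟨a, ha, rfl⟩
        refine mem_centralizer_iff.2 fun b hb => ?_
        have hb' : n⁻¹ * b * n⁻¹⁻¹ ∈ B := conj_mem_of_mem_normalizer
          (inv_mem (mem_normalizer_of_forall fun b hb => h.even_invariant hnT hb)) hb
        have h1 := ((f.commute (h.frame.even_le hb') ha).map (MulAut.conj n).toMonoidHom).eq
        simpa [mul_assoc] using h1)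
      ((isPGroup_of_sq f.setup.sq).map _)
    have hcn : c * n ∈ N := f.setup.norm ▸ mem_normalizer_of_forall fun a ha => by
      have := hcA _ ⟨a, ha, rfl⟩
      rwa [show c * n * a * (c * n)⁻¹ = c * (n * a * n⁻¹) * c⁻¹ by group]
    obtain ⟨k, hk, a, ha, rfl⟩ := hcovC c hc
    refine ⟨a⁻¹ * k⁻¹ * a⁻¹⁻¹, hKO (conj_mem_of_mem_normalizer (PNil.le_normalizer_coreOf C
      (inv_mem (hAC ha))) (inv_mem hk)), a⁻¹ * (k * a * n), mul_mem (inv_mem (f.le ha)) hcn, by group⟩
  intro g hg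
  rcases hor g hg with h1 | h1
  · exact hX₁cov g h1
  · have := (hX₁cov _ h1).mul_left (inv_mem (f.le (f.mem 0)))
      (PNil.le_normalizer_coreOf X (inv_mem hv0X))
    rwa [inv_mul_cancel_left] at this

end Cfsg.Lib.EightThree
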