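import Cfsg.Agent.Lib.EightThree.Frame
import Cfsg.Agent.Lib.EightThree.Tools

/-!
# Consequences of the frame

Strong closure of `A`, and the subgroup of index two of `A` of the products of evenly many of the
first four involutions.
-/

set_option autoImplicit false
set_option linter.style.haveILetI false

namespace Cfsg.Lib.EightThree

open Subgroup Cfsg.Lib

universe u

/-- The parity of a family on the first four points. -/
def par (s : Fin 5 → Bool) : Bool := xor (xor (s 0) (s 1)) (xor (s 2) (s 3))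

/-- The four permutations fixing the last point of order at most two. -/
def k4 : Fin 4 → Equiv.Perm (Fin 5) := ![1, p1, p2, p1 * p2]

theorem par_xor : ∀ s t, par (fun l => xor (s l) (t l)) = xor (par s) (par t) := by decide +kernel
theorem par_not : ∀ s, par (fun l => !s l) = par s := by decide +kernel
theorem par_false : par (fun _ => false) = false := rfl
theorem par_single : ∀ i : Fin 5, par (fun l => decide (l = i)) = !decide (i = 4) := by decide +kernel
theorem pair_eq : ∀ a b c d : Fin 5, a ≠ b →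
    ((fun l => xor (decide (l = a)) (decide (l = b))) = (fun l => xor (decide (l = c)) (decide (l = d))) ∨
      (fun l => xor (decide (l = a)) (decide (l = b))) =
        (fun l => !xor (decide (l = c)) (decide (l = d)))) →
    (a = c ∧ b = d) ∨ (a = d ∧ b = c) := by decide +kernel
theorem single_eq : ∀ a b : Fin 5,
    ((fun l => decide (l = a)) = (fun l => decide (l = b)) ∨
      (fun l => decide (l = a)) = (fun l => !decide (l = b))) → a = b := by decide +kernel
theorem single_ne : ∀ i : Fin 5, (fun l => decide (l = i)) ≠ (fun _ => false) ∧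
    (fun l => decide (l = i)) ≠ (fun _ => true) := by decide +kernel
theorem par_cases : ∀ s, par s = false → s = (fun _ => false) ∨ s = (fun _ => true) ∨
    s = (fun l => decide (l = 4)) ∨ s = (fun l => !decide (l = 4)) ∨
    ∃ i j : Fin 5, i ≠ 4 ∧ j ≠ 4 ∧ i ≠ j ∧
      (s = (fun l => xor (decide (l = i)) (decide (l = j))) ∨
        s = fun l => !xor (decide (l = i)) (decide (l = j))) := by decide +kernel
/-- Whether a family gives an element of the group generated by the last involution. -/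
def InLast (s : Fin 5 → Bool) : Prop :=
  (s = (fun _ => false) ∨ s = (fun _ => true)) ∨
    (s = (fun l => decide (l = 4)) ∨ s = fun l => !decide (l = 4))

instance (s : Fin 5 → Bool) : Decidable (InLast s) := by unfold InLast; infer_instance

theorem k4_moved : ∀ i : Fin 4, i ≠ 0 → ∀ s,
    (InLast (fun l => xor (s l) (s ((k4 i)⁻¹ l))) ↔ par s = false) := by decide +kernel
theorem k4_even : ∀ i : Fin 4, ∀ s, par s = false →
    InLast (fun l => xor (s l) (s ((k4 i)⁻¹ l))) := by decide +kernel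
theorem fixes_even : ∀ σ : Equiv.Perm (Fin 5), σ 4 = 4 →
    (σ 0 = 0 ∧ σ 1 = 1) ∨ (σ 0 = 1 ∧ σ 1 = 0) → (σ 0 = 0 ∧ σ 2 = 2) ∨ (σ 0 = 2 ∧ σ 2 = 0) →
    σ = 1 := by decide +kernel

variable {G : Type u} [Group G] [Finite G] {A N : Subgroup G}
  {π : ↥N →* ↥(alternatingGroup (Fin 5))} {v : Fin 5 → G} {φ : (Fin 5 → Bool) → G}

namespace Frame

variable (f : Frame A N π v φ)
include f

theorem phi_false : φ (fun _ => false) = 1 := by
  have h := f.xor_mul (fun _ => false) (fun _ => false)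
  simp only [Bool.xor_self] at h
  exact (mul_eq_left.1 h.symm)

theorem phi_not (s : Fin 5 → Bool) : φ (fun l => !s l) = φ s := (f.eq_iff _ _).2 (Or.inr rfl)

theorem phi_true : φ (fun _ => true) = 1 := by
  rw [← f.phi_false, ← f.phi_not (fun _ => false)]; rfl

theorem phi_pair (i j : Fin 5) : φ (fun l => xor (decide (l = i)) (decide (l = j))) = v i * v j := by
  rw [f.xor_mul, f.single, f.single]

theorem phi_mem (s : Fin 5 → Bool) : φ s ∈ A := by
  rcases bool_cases s with rfl | rfl | ⟨i, rfl | rfl⟩ | ⟨i, j, -, rfl | rfl⟩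
  · rw [f.phi_false]; exact one_mem _
  · rw [f.phi_true]; exact one_mem _
  · rw [f.single]; exact f.mem i
  · rw [f.phi_not, f.single]; exact f.mem i
  · rw [f.phi_pair]; exact mul_mem (f.mem i) (f.mem j)
  · rw [f.phi_not, f.phi_pair]; exact mul_mem (f.mem i) (f.mem j)

theorem phi_conj {n : G} (hn : n ∈ N) (s : Fin 5 → Bool) :
    n * φ s * n⁻¹ = φ (fun l => s ((π ⟨n, hn⟩ : Equiv.Perm (Fin 5))⁻¹ l)) := by
  set σ : Equiv.Perm (Fin 5) := (π ⟨n, hn⟩ : Equiv.Perm (Fin 5))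
  have hs : ∀ i, n * φ (fun l => decide (l = i)) * n⁻¹ = φ (fun l => decide (σ⁻¹ l = i)) := by
    intro i
    rw [f.single, f.equiv n hn i, ← f.single]
    refine congrArg φ (funext fun l => decide_eq_decide.2 ?_)
    rw [Equiv.Perm.inv_eq_iff_eq]
  have hf : n * φ (fun _ => false) * n⁻¹ = φ (fun _ => false) := by rw [f.phi_false]; group
  have ht : n * φ (fun _ => true) * n⁻¹ = φ (fun _ => true) := by rw [f.phi_true]; group
  have hnot : ∀ t, n * φ t * n⁻¹ = φ (fun l => t (σ⁻¹ l)) →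
      n * φ (fun l => !t l) * n⁻¹ = φ (fun l => !t (σ⁻¹ l)) := fun t e => by
    rw [f.phi_not, e, f.phi_not (fun l => t (σ⁻¹ l))]
  have hpair : ∀ i j, n * φ (fun l => xor (decide (l = i)) (decide (l = j))) * n⁻¹ =
      φ (fun l => xor (decide (σ⁻¹ l = i)) (decide (σ⁻¹ l = j))) := fun i j => by
    rw [f.xor_mul, f.xor_mul, ← hs, ← hs]; group
  rcases bool_cases s with rfl | rfl | ⟨i, rfl | rfl⟩ | ⟨i, j, -, rfl | rfl⟩
  · exact hf
  · exact ht
  · exact hs i
  · exact hnot _ (hs i)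
  · exact hpair i j
  · exact hnot _ (hpair i j)

theorem le : A ≤ N := f.setup.le

theorem sq {a : G} (ha : a ∈ A) : a * a = 1 := f.setup.sq a ha

theorem inv_eq {a : G} (ha : a ∈ A) : a⁻¹ = a := inv_eq_of_mul_eq_one_right (f.sq ha)

theorem commute {a b : G} (ha : a ∈ A) (hb : b ∈ A) : Commute a b := commute_of_sq f.setup.sq ha hb

theorem v_inj {i j : Fin 5} (e : v i = v j) : i = j := by
  rw [← f.single, ← f.single, f.eq_iff] at e
  exact single_eq i j e

theorem v_ne_one (i : Fin 5) : v i ≠ 1 := by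
  intro e
  rw [← f.single, ← f.phi_false, f.eq_iff] at e
  rcases e with e | e
  · exact (single_ne i).1 e
  · exact (single_ne i).2 e

theorem pair_unique {a b c d : Fin 5} (hab : a ≠ b) (e : v a * v b = v c * v d) :
    (a = c ∧ b = d) ∨ (a = d ∧ b = c) := by
  rw [← f.phi_pair, ← f.phi_pair, f.eq_iff] at e
  exact pair_eq a b c d hab e

theorem apply_fix {n : G} (hn : n ∈ N) {i : Fin 5} :
    Commute n (v i) ↔ (π ⟨n, hn⟩ : Equiv.Perm (Fin 5)) i = i := by
  rw [Invol.commute_iff_conj_eq, f.equiv n hn i]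
  exact ⟨fun e => f.v_inj e, fun e => by rw [e]⟩

/-- `A` is strongly closed in `N`. -/
theorem closed {a g : G} (ha : a ∈ A) (hg : g * a * g⁻¹ ∈ N) : g * a * g⁻¹ ∈ A := by
  by_cases ha1 : a = 1
  · simp [ha1]
  have h2 : g * a * g⁻¹ * (g * a * g⁻¹) = 1 := by
    rw [show g * a * g⁻¹ * (g * a * g⁻¹) = g * (a * a) * g⁻¹ by group, f.sq ha]; group
  by_contra hA
  exact f.class_out a ha ha1 _ hg h2
    (fun e => hA (f.proj.mem_of_involution f.setup hg e h2)) (isConj_iff.2 ⟨g, rfl⟩)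

theorem conj_v {x : G} (hx : x ∈ A) {i : Fin 5} (hc : IsConj (v i) x) : ∃ k, x = v k := by
  obtain ⟨s, rfl⟩ := f.surj x hx
  have h1 : φ s ≠ 1 := fun e => by
    obtain ⟨c, hc⟩ := isConj_iff.1 hc
    exact f.v_ne_one i (conj_eq_one_iff.1 (hc.trans e))
  rcases bool_cases s with rfl | rfl | ⟨k, rfl | rfl⟩ | ⟨k, l, hkl, rfl | rfl⟩
  · exact absurd f.phi_false h1
  · exact absurd f.phi_true h1
  · exact ⟨k, f.single k⟩
  · exact ⟨k, by rw [f.phi_not, f.single]⟩
  · rw [f.phi_pair] at hc; exact absurd hc (f.class_vw i k l hkl)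
  · rw [f.phi_not, f.phi_pair] at hc; exact absurd hc (f.class_vw i k l hkl)

/-- Any 2-subgroup is conjugate into `N`, with elements conjugate into `A` going into `A`. -/
theorem exists_move {R : Subgroup G} (hR : IsPGroup 2 R) :
    ∃ g : G, ∀ r ∈ R, g * r * g⁻¹ ∈ N ∧ ∀ a ∈ A, IsConj a r → g * r * g⁻¹ ∈ A := by
  haveI : Fact (Nat.Prime 2) := ⟨Nat.prime_two⟩
  obtain ⟨S, hSN, -⟩ := f.proj.exists_sylow f.setup
  obtain ⟨g, hg⟩ := Invol.exists_conj_mem_sylow S hR
  refine ⟨g, fun r hr => ⟨hSN (hg r hr), fun a ha hc => ?_⟩⟩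
  obtain ⟨c, rfl⟩ := isConj_iff.1 hc
  have := f.closed ha (g := g * c) (by
    rw [show g * c * a * (g * c)⁻¹ = g * (c * a * c⁻¹) * g⁻¹ by group]; exact hSN (hg _ hr))
  rwa [show g * c * a * (g * c)⁻¹ = g * (c * a * c⁻¹) * g⁻¹ by group] at this

theorem pGroup_le {R : Subgroup G} (hR : IsPGroup 2 R) (hAR : A ≤ R) : R ≤ N := by
  obtain ⟨g, hg⟩ := f.exists_move hR
  have hgN : g ∈ N := by
    rw [f.setup.norm]
    exact mem_normalizer_of_forall fun a ha => (hg a (hAR ha)).2 a ha (IsConj.refl a)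
  intro r hr
  have := mul_mem (mul_mem (inv_mem hgN) (hg r hr).1) hgN
  rwa [show g⁻¹ * (g * r * g⁻¹) * g = r by group] at this

/-- Two elements conjugate into `A` in a 2-subgroup commute. -/
theorem commute_of_pGroup {R : Subgroup G} (hR : IsPGroup 2 R) {x y a b : G} (hx : x ∈ R) (hy : y ∈ R)
    (ha : a ∈ A) (hb : b ∈ A) (hax : IsConj a x) (hby : IsConj b y) : Commute x y := by
  obtain ⟨g, hg⟩ := f.exists_move hR
  have h := (f.commute ((hg x hx).2 a ha hax) ((hg y hy).2 b hb hby)).map (MulAut.conj g⁻¹).toMonoidHom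
  simpa [mul_assoc] using h

theorem mem_of_pGroup {R : Subgroup G} (hR : IsPGroup 2 R) (hAR : A ≤ R) {r : G} (hr : r ∈ R)
    (hn : r ∈ N) (e : π ⟨r, hn⟩ = 1) : r ∈ A := by
  obtain ⟨a, ha, o, ho, rfl⟩ := (f.proj.apply_eq_one_iff f.setup hn).1 e
  have hoR : o ∈ R := by
    have := mul_mem (inv_mem (hAR ha)) hr
    rwa [inv_mul_cancel_left] at this
  rw [eq_one_of_odd hR hoR ((PNil.coreOf_odd N).of_dvd_nat (Subgroup.orderOf_dvd_natCard _ ho)), mul_one]
  exact ha

theorem core_fixes {K : Subgroup G} (hAK : A ≤ K) {o b c : G} (ho : o ∈ PNil.coreOf K) (hb : b ∈ A)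
    (hc : c ∈ A) (e : o * b * o⁻¹ = c) : b = c := by
  have h1 : c * b ∈ PNil.coreOf K := by
    rw [← e]
    nth_rewrite 2 [← f.inv_eq hb]
    rw [show o * b * o⁻¹ * b⁻¹ = o * (b * o⁻¹ * b⁻¹) by group]
    exact mul_mem ho (conj_mem_of_mem_normalizer (PNil.le_normalizer_coreOf K (hAK hb)) (inv_mem ho))
  have h2 := eq_one_of_mem_coreOf h1 (f.sq (mul_mem hc hb))
  rw [eq_inv_of_mul_eq_one_left h2, f.inv_eq hb]

theorem le_centralizer {a : G} (ha : a ∈ A) : A ≤ centralizer ({a} : Set G) :=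
  fun _ hb => mem_centralizer_of_commute (f.commute hb ha)

theorem mem_last {x : G} : x ∈ zpowers (v 4) ↔ x = 1 ∨ x = v 4 := by
  constructor
  · rintro ⟨k, rfl⟩
    have h2 : v 4 ^ (2 : ℤ) = 1 := by rw [zpow_two, f.sq (f.mem 4)]
    show v 4 ^ k = 1 ∨ v 4 ^ k = v 4
    rcases Int.even_or_odd' k with ⟨m, rfl | rfl⟩
    · exact Or.inl (by rw [zpow_mul, h2, one_zpow])
    · exact Or.inr (by rw [zpow_add, zpow_mul, h2, one_zpow, one_mul, zpow_one])
  · rintro (rfl | rfl)
    · exact one_mem _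
    · exact mem_zpowers _

theorem mem_last_iff (s : Fin 5 → Bool) : φ s ∈ zpowers (v 4) ↔ InLast s := by
  rw [f.mem_last, ← f.phi_false, ← f.single 4, f.eq_iff, f.eq_iff]
  exact Iff.rfl

end Frame

/-- The subgroup of evenly many of the first four involutions. -/
def Frame.even (f : Frame A N π v φ) : Subgroup G where
  carrier := {a | ∃ s, par s = false ∧ φ s = a}
  one_mem' := ⟨_, par_false, f.phi_false⟩
  mul_mem' := by
    rintro _ _ ⟨s, hs, rfl⟩ ⟨t, ht, rfl⟩
    exact ⟨_, by rw [par_xor, hs, ht]; rfl, f.xor_mul s t⟩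
  inv_mem' := by
    rintro _ ⟨s, hs, rfl⟩
    exact ⟨s, hs, (f.inv_eq (f.phi_mem s)).symm⟩

namespace Frame

variable (f : Frame A N π v φ)

theorem even_le : f.even ≤ A := by
  rintro _ ⟨s, -, rfl⟩
  exact f.phi_mem s

theorem mem_even (s : Fin 5 → Bool) : φ s ∈ f.even ↔ par s = false := by
  refine ⟨?_, fun h => ⟨s, h, rfl⟩⟩
  rintro ⟨t, ht, e⟩
  rcases (f.eq_iff t s).1 e with rfl | rfl
  · exact ht
  · rwa [par_not] at ht

theorem v_mem_even {i : Fin 5} : v i ∈ f.even ↔ i = 4 := by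
  rw [← f.single, f.mem_even, par_single]
  simp

theorem pair_mem_even {i j : Fin 5} (hi : i ≠ 4) (hj : j ≠ 4) : v i * v j ∈ f.even := by
  rw [← f.phi_pair, f.mem_even, par_xor, par_single, par_single]
  simp [hi, hj]

theorem last_le_even : zpowers (v 4) ≤ f.even := zpowers_le.2 (f.v_mem_even.2 rfl)

theorem mem_or {a : G} (ha : a ∈ A) : a ∈ f.even ∨ v 0 * a ∈ f.even := by
  obtain ⟨s, rfl⟩ := f.surj a ha
  by_cases hs : par s = false
  · exact Or.inl ((f.mem_even s).2 hs)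
  · refine Or.inr ?_
    rw [← f.single, ← f.xor_mul, f.mem_even, par_xor, par_single]
    simpa using hs

theorem even_card : Nat.card f.even = 8 := by
  have hi : (f.even.subgroupOf A).index = 2 := by
    refine index_eq_two_iff.2 ⟨⟨v 0, f.mem 0⟩, fun b => ?_⟩
    simp only [mem_subgroupOf, Subgroup.coe_mul]
    have hv : v 0 ∉ f.even := fun e => absurd (f.v_mem_even.1 e) (by decide)
    rcases f.mem_or b.2 with hb | hb
    · refine Or.inr ⟨hb, fun e => hv ?_⟩
      exact (mul_mem_cancel_left hb).1 e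
    · refine Or.inl ⟨?_, fun e => hv ((mul_mem_cancel_right e).1 hb)⟩
      rwa [(f.commute b.2 (f.mem 0)).eq]
  have h := (f.even.subgroupOf A).card_mul_index
  rw [hi, Nat.card_congr (subgroupOfEquivOfLe f.even_le).toEquiv, f.setup.card16] at h
  omega

theorem even_cases {b : G} (hb : b ∈ f.even) :
    b = 1 ∨ b = v 4 ∨ ∃ i j : Fin 5, i ≠ 4 ∧ j ≠ 4 ∧ i ≠ j ∧ b = v i * v j := by
  obtain ⟨s, hs, rfl⟩ := hb
  rcases par_cases s hs with rfl | rfl | rfl | rfl | ⟨i, j, hi, hj, hij, rfl | rfl⟩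
  · exact Or.inl f.phi_false
  · exact Or.inl f.phi_true
  · exact Or.inr (Or.inl (f.single 4))
  · exact Or.inr (Or.inl (by rw [f.phi_not, f.single]))
  · exact Or.inr (Or.inr ⟨i, j, hi, hj, hij, f.phi_pair i j⟩)
  · exact Or.inr (Or.inr ⟨i, j, hi, hj, hij, by rw [f.phi_not, f.phi_pair]⟩)

/-- Which elements of `A` an involution over the stabilizer of the last point fixes modulo it. -/
theorem moved {r : G} (hr : r ∈ N) {i : Fin 4} (hi : i ≠ 0)
    (e : (π ⟨r, hr⟩ : Equiv.Perm (Fin 5)) = k4 i) {a : G} (ha : a ∈ A) :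
    a * (r * a * r⁻¹) ∈ zpowers (v 4) ↔ a ∈ f.even := by
  obtain ⟨s, rfl⟩ := f.surj a ha
  rw [f.phi_conj hr, e, ← f.xor_mul, f.mem_last_iff, f.mem_even]
  exact k4_moved i hi s

theorem even_moved {r : G} (hr : r ∈ N) {i : Fin 4}
    (e : (π ⟨r, hr⟩ : Equiv.Perm (Fin 5)) = k4 i) {b : G} (hb : b ∈ f.even) :
    b * (r * b * r⁻¹) ∈ zpowers (v 4) := by
  obtain ⟨s, hs, rfl⟩ := hb
  rw [f.phi_conj hr, e, ← f.xor_mul, f.mem_last_iff]
  exact k4_even i s hs

theorem apply_eq_one_of_even {n : G} (hn : n ∈ N) (hc : ∀ b ∈ f.even, Commute n b) :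
    π ⟨n, hn⟩ = 1 := by
  have hw : ∀ j : Fin 5, j ≠ 4 → (0 : Fin 5) ≠ j →
      ((π ⟨n, hn⟩ : Equiv.Perm (Fin 5)) 0 = 0 ∧ (π ⟨n, hn⟩ : Equiv.Perm (Fin 5)) j = j) ∨
      ((π ⟨n, hn⟩ : Equiv.Perm (Fin 5)) 0 = j ∧ (π ⟨n, hn⟩ : Equiv.Perm (Fin 5)) j = 0) := by
    intro j hj h0
    refine f.pair_unique ((Equiv.injective _).ne h0) ?_
    rw [← f.equiv n hn 0, ← f.equiv n hn j]
    rw [show n * v 0 * n⁻¹ * (n * v j * n⁻¹) = n * (v 0 * v j) * n⁻¹ by group,
      (hc _ (f.pair_mem_even (by decide) hj)).eq, mul_inv_cancel_right]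
  exact coe_eq_one.2 (fixes_even _ ((f.apply_fix hn).1 (hc _ (f.v_mem_even.2 rfl)))
    (hw 1 (by decide) (by decide)) (hw 2 (by decide) (by decide)))

end Frame

end Cfsg.Lib.EightThree
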