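import Mathlib.GroupTheory.Sylow
import Mathlib.GroupTheory.SpecificGroups.Alternating

/-!
# The Sylow 2-subgroup of `A₈` has class at least three
-/

set_option autoImplicit false

namespace Cfsg.Lib.EightThree

open Subgroup Equiv

/-- The even permutations preserving the partitions into two quadruples and into four pairs. -/
def tree : Subgroup (Perm (Fin 8)) where
  carrier := {g | ∀ i j : Fin 8, ((i.val / 2 = j.val / 2) ↔ ((g i).val / 2 = (g j).val / 2)) ∧
    ((i.val / 4 = j.val / 4) ↔ ((g i).val / 4 = (g j).val / 4))}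
  one_mem' := fun i j => ⟨Iff.rfl, Iff.rfl⟩
  mul_mem' := fun {a b} ha hb i j => ⟨(hb i j).1.trans (ha (b i) (b j)).1, (hb i j).2.trans (ha (b i) (b j)).2⟩
  inv_mem' := fun {a} ha i j => by
    have h := ha (a⁻¹ i) (a⁻¹ j)
    simp only [Perm.inv_def, Equiv.apply_symm_apply] at h
    exact ⟨h.1.symm, h.2.symm⟩

theorem sq_quad {g : Perm (Fin 8)} (hg : g ∈ tree) (i : Fin 8) :
    ((g * g) i).val / 4 = i.val / 4 := by
  rw [Perm.mul_apply]
  have h1 := (hg i (g i)).2
  have a := (g i).isLt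
  have b := (g (g i)).isLt
  have c := i.isLt
  omega

theorem sq_pair {g : Perm (Fin 8)} (hg : g ∈ tree) (hq : ∀ i : Fin 8, (g i).val / 4 = i.val / 4)
    (i : Fin 8) : ((g * g) i).val / 2 = i.val / 2 := by
  rw [Perm.mul_apply]
  have h1 := (hg i (g i)).1
  have a := hq i
  have b := hq (g i)
  omega

theorem sq_point {g : Perm (Fin 8)} (hp : ∀ i : Fin 8, (g i).val / 2 = i.val / 2) : g * g = 1 := by
  ext i
  rw [Perm.mul_apply, Perm.one_apply]
  have h1 := hp i
  have h2 := hp (g i)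
  have h3 : g i = i → g (g i) = i := fun e => by rw [e, e]
  have h4 : g (g i) = g i → g i = i := fun e => g.injective e
  rw [Fin.ext_iff] at h3 h4
  omega

theorem tree_isPGroup : IsPGroup 2 tree := fun g => ⟨3, Subtype.ext (by
  have h2 : ∀ i : Fin 8, (((g : Perm (Fin 8)) * g) i).val / 4 = i.val / 4 := sq_quad g.2
  have h4 := sq_pair (mul_mem g.2 g.2) h2
  have h8 := sq_point h4
  rw [SubmonoidClass.coe_pow, OneMemClass.coe_one, show (2 : ℕ) ^ 3 = 8 from rfl, ← h8]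
  simp only [pow_succ, pow_zero, one_mul, mul_assoc])⟩

/-- The Sylow 2-subgroup has a nontrivial triple commutator. -/
theorem exists_triple (P : Sylow 2 ↥(alternatingGroup (Fin 8))) {S : Type*} [Group S]
    (e : S ≃* ↥(P : Subgroup ↥(alternatingGroup (Fin 8)))) :
    ∃ x y z : S, (x * y * x⁻¹ * y⁻¹) * z * (x * y * x⁻¹ * y⁻¹)⁻¹ * z⁻¹ ≠ 1 := by
  haveI : Fact (Nat.Prime 2) := ⟨Nat.prime_two⟩
  set T : Subgroup ↥(alternatingGroup (Fin 8)) := tree.subgroupOf (alternatingGroup (Fin 8))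
  have hT : IsPGroup 2 T := tree_isPGroup.comap_subtype
  obtain ⟨Q, hQ⟩ := hT.exists_le_sylow
  obtain ⟨g, hg⟩ := MulAction.exists_smul_eq ↥(alternatingGroup (Fin 8)) Q P
  have hmem : ∀ u : ↥(alternatingGroup (Fin 8)), (u : Perm (Fin 8)) ∈ tree → g * u * g⁻¹ ∈ (P : Subgroup _) := by
    intro u hu
    rw [← hg, Sylow.coe_subgroup_smul]
    exact ⟨u, hQ hu, rfl⟩
  let x : ↥(alternatingGroup (Fin 8)) := ⟨swap 0 4 * swap 1 5 * swap 2 6 * swap 3 7, Perm.mem_alternatingGroup.2 (by decide)⟩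
  let y : ↥(alternatingGroup (Fin 8)) := ⟨swap 0 2 * swap 1 3, Perm.mem_alternatingGroup.2 (by decide)⟩
  let z : ↥(alternatingGroup (Fin 8)) := ⟨swap 0 1 * swap 4 5, Perm.mem_alternatingGroup.2 (by decide)⟩
  have hx : (x : Perm (Fin 8)) ∈ tree := by
    show ∀ i j : Fin 8, _
    decide +kernel
  have hy : (y : Perm (Fin 8)) ∈ tree := by
    show ∀ i j : Fin 8, _
    decide +kernel
  have hz : (z : Perm (Fin 8)) ∈ tree := by
    show ∀ i j : Fin 8, _
    decide +kernel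
  refine ⟨e.symm ⟨_, hmem x hx⟩, e.symm ⟨_, hmem y hy⟩, e.symm ⟨_, hmem z hz⟩, fun h => ?_⟩
  have h1 := congrArg (fun s => ((e s : ↥(P : Subgroup ↥(alternatingGroup (Fin 8)))) : ↥(alternatingGroup (Fin 8)))) h
  simp only [map_mul, map_inv, MulEquiv.apply_symm_apply, map_one, coe_mul, coe_inv, OneMemClass.coe_one] at h1
  have h2 : (x * y * x⁻¹ * y⁻¹) * z * (x * y * x⁻¹ * y⁻¹)⁻¹ * z⁻¹ = 1 := by
    rw [← conj_eq_one_iff (a := g), ← h1]
    group
  have h3 := congrArg Subtype.val h2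
  revert h3
  decide +kernel

end Cfsg.Lib.EightThree
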