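import Cfsg.Agent.Lib.EightThree.Core
import Cfsg.Agent.Lib.EightThree.Sylow
import Cfsg.Prelude.Def_Transfer
import Mathlib.GroupTheory.SpecificGroups.Alternating.Simple

/-!
# The normalizer of the elementary abelian subgroup of order sixteen

`N/(A·O(N)) ≅ A₅` acts faithfully on `A`, without fixed points, and every involution of `A₅` has
centralizer of order four on `A`, equal to its commutator.
-/

set_option autoImplicit false
set_option linter.style.haveILetI false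

namespace Cfsg.Lib.EightThree

open Subgroup Cfsg.Lib

universe u

variable {G : Type u} [Group G] [Finite G]

/-- The hypotheses. -/
structure Setup (A N : Subgroup G) : Prop where
  sq : ∀ a ∈ A, a * a = 1
  card16 : Nat.card A = 16
  norm : N = normalizer (A : Set G)
  sylow : ∃ (S : Sylow 2 G) (P : Sylow 2 ↥(alternatingGroup (Fin 8))),
    Nonempty (↥(S : Subgroup G) ≃* ↥(P : Subgroup ↥(alternatingGroup (Fin 8))))
  three : Nat.card {c : ConjClasses G // ∃ x ∈ c.carrier, orderOf x = 2} = 3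
  quot : ∃ π : ↥N →* ↥(alternatingGroup (Fin 5)), Function.Surjective π ∧
    π.ker = A.subgroupOf N ⊔ Cfsg.oddCore ↥N

/-- The properties of the projection. -/
structure Proj (A N : Subgroup G) (π : ↥N →* ↥(alternatingGroup (Fin 5))) : Prop where
  surj : Function.Surjective π
  ker : π.ker = A.subgroupOf N ⊔ Cfsg.oddCore ↥N

namespace Setup

variable {A N : Subgroup G} (h : Setup A N)
include h

theorem le : A ≤ N := h.norm ▸ le_normalizer

theorem conj_mem {n a : G} (hn : n ∈ N) (ha : a ∈ A) : n * a * n⁻¹ ∈ A :=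
  (mem_normalizer_iff.1 (h.norm ▸ hn : n ∈ normalizer (A : Set G)) a).1 ha

theorem subgroupOf_normal : (A.subgroupOf N).Normal := by
  subst_vars
  exact (normal_subgroupOf_iff_le_normalizer h.le).2 h.norm.le

theorem centralizer_le : centralizer (A : Set G) ≤ N := h.norm ▸ centralizer_le_normalizer _

theorem coreOf_commute {o a : G} (ho : o ∈ PNil.coreOf N) (ha : a ∈ A) : Commute o a :=
  PNil.coreOf_commute h.le h.norm.le (isPGroup_of_sq h.sq) ho ha

end Setup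

/-- An even permutation of order two fixes exactly one of five points. -/
theorem fix_one : ∀ t : Equiv.Perm (Fin 5), Equiv.Perm.sign t = 1 → t * t = 1 → t ≠ 1 →
    ∃ k, ∀ l, t l = l ↔ l = k := by decide +kernel

theorem conj_five : ∀ t : Equiv.Perm (Fin 5), Equiv.Perm.sign t = 1 → t * t = 1 → t ≠ 1 →
    ∀ u : Equiv.Perm (Fin 5), Equiv.Perm.sign u = 1 → u * u = 1 → u ≠ 1 →
      ∃ σ : Equiv.Perm (Fin 5), Equiv.Perm.sign σ = 1 ∧ σ * t * σ⁻¹ = u := by decide +kernel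

/-- Every involution has a partner with product of order five. -/
theorem partner : ∀ t : Equiv.Perm (Fin 5), Equiv.Perm.sign t = 1 → t * t = 1 → t ≠ 1 →
    ∃ u : Equiv.Perm (Fin 5), Equiv.Perm.sign u = 1 ∧ u * u = 1 ∧ u ≠ 1 ∧ (t * u) ^ 5 = 1 ∧ t * u ≠ 1 := by
  decide +kernel

theorem coe_eq_one {σ : ↥(alternatingGroup (Fin 5))} : σ = 1 ↔ (σ : Equiv.Perm (Fin 5)) = 1 :=
  ⟨fun e => by rw [e]; rfl, fun e => Subtype.ext e⟩

namespace Proj

variable {A N : Subgroup G} {π : ↥N →* ↥(alternatingGroup (Fin 5))} (p : Proj A N π) (h : Setup A N)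
include p h

theorem apply_eq_one_iff {n : G} (hn : n ∈ N) :
    π ⟨n, hn⟩ = 1 ↔ ∃ a ∈ A, ∃ o ∈ PNil.coreOf N, n = a * o := by
  haveI := h.subgroupOf_normal
  rw [← MonoidHom.mem_ker, p.ker, mem_sup_of_normal_left]
  constructor
  · rintro ⟨a, ha, o, ho, e⟩
    exact ⟨a, ha, o, ⟨o, ho, rfl⟩, congrArg Subtype.val e.symm⟩
  · rintro ⟨a, ha, _, ⟨o, ho, rfl⟩, e⟩
    exact ⟨⟨a, h.le ha⟩, ha, o, ho, Subtype.ext e.symm⟩

theorem apply_of_mem {a : G} (ha : a ∈ A) : π ⟨a, h.le ha⟩ = 1 :=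
  (p.apply_eq_one_iff h _).2 ⟨a, ha, 1, one_mem _, (mul_one a).symm⟩

theorem commute_of_apply_eq_one {n : G} (hn : n ∈ N) (e : π ⟨n, hn⟩ = 1) {a : G} (ha : a ∈ A) :
    Commute n a := by
  obtain ⟨b, hb, o, ho, rfl⟩ := (p.apply_eq_one_iff h hn).1 e
  exact (commute_of_sq h.sq hb ha).mul_left (h.coreOf_commute ho ha)

/-- An involution in the kernel lies in `A`. -/
theorem mem_of_involution {n : G} (hn : n ∈ N) (e : π ⟨n, hn⟩ = 1) (h2 : n * n = 1) : n ∈ A := by
  obtain ⟨b, hb, o, ho, rfl⟩ := (p.apply_eq_one_iff h hn).1 e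
  have hc := (h.coreOf_commute ho hb).symm
  rw [hc.symm.mul_mul_mul_comm, h.sq b hb, one_mul] at h2
  have ho1 : o = 1 := by
    by_contra hne
    have h1 := (PNil.coreOf_odd N).of_dvd_nat (Subgroup.orderOf_dvd_natCard _ ho)
    rw [Invol.orderOf_eq_two_of hne h2] at h1
    exact absurd h1 (by decide)
  rwa [ho1, mul_one]

theorem conj_eq {n n' : G} (hn : n ∈ N) (hn' : n' ∈ N) (e : π ⟨n, hn⟩ = π ⟨n', hn'⟩) {a : G}
    (ha : a ∈ A) : n * a * n⁻¹ = n' * a * n'⁻¹ := by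
  have e1 : π ⟨n'⁻¹ * n, mul_mem (inv_mem hn') hn⟩ = 1 := by
    rw [show (⟨n'⁻¹ * n, mul_mem (inv_mem hn') hn⟩ : N) = ⟨n', hn'⟩⁻¹ * ⟨n, hn⟩ from rfl, map_mul,
      map_inv, e, inv_mul_cancel]
  have e2 := (p.commute_of_apply_eq_one h _ e1 ha).eq
  calc n * a * n⁻¹ = n' * (n'⁻¹ * n * a) * n⁻¹ := by group
    _ = n' * (a * (n'⁻¹ * n)) * n⁻¹ := by rw [e2]
    _ = n' * a * n'⁻¹ := by group

/-- The kernel is a proper part of `N`: `A` is not central in `N`. -/
theorem exists_sylow : ∃ S : Sylow 2 G, (S : Subgroup G) ≤ N ∧ A ≤ S ∧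
    Nat.card ↥(S : Subgroup G) = 64 ∧
    ∃ x ∈ (S : Subgroup G), ∃ y ∈ (S : Subgroup G), ∃ z ∈ (S : Subgroup G),
      (x * y * x⁻¹ * y⁻¹) * z * (x * y * x⁻¹ * y⁻¹)⁻¹ * z⁻¹ ≠ 1 := by
  haveI : Fact (Nat.Prime 2) := ⟨Nat.prime_two⟩
  obtain ⟨S₀, P, ⟨e⟩⟩ := h.sylow
  have hP : Nat.card ↥(P : Subgroup ↥(alternatingGroup (Fin 8))) = 64 := by
    obtain ⟨k, hk⟩ := IsPGroup.iff_card.1 P.isPGroup'
    have h1 := (P : Subgroup ↥(alternatingGroup (Fin 8))).card_mul_index
    have h2 : Nat.card ↥(alternatingGroup (Fin 8)) = 20160 := by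
      rw [nat_card_alternatingGroup, Nat.card_eq_fintype_card, Fintype.card_fin]
      rfl
    have h3 := P.not_dvd_index
    rw [h2, hk] at h1
    rw [hk]
    have hk' : k ≤ 14 := by
      by_contra hc
      have : 2 ^ 15 ≤ 2 ^ k := Nat.pow_le_pow_right two_pos (by omega)
      have h4 : 2 ^ k ≤ 20160 := by
        rw [← h1]
        exact Nat.le_mul_of_pos_right _ (Nat.pos_of_ne_zero index_ne_zero_of_finite)
      omega
    interval_cases k <;> norm_num at * <;> omega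
  have hS0 : Nat.card ↥(S₀ : Subgroup G) = 64 := by rw [Nat.card_congr e.toEquiv, hP]
  haveI := h.subgroupOf_normal
  obtain ⟨R, hR⟩ : ∃ R : Sylow 2 ↥N, A.subgroupOf N ≤ R :=
    ((isPGroup_of_sq h.sq).comap_of_injective N.subtype N.subtype_injective).exists_le_sylow
  obtain ⟨S, hS⟩ := (R.isPGroup'.map N.subtype).exists_le_sylow
  have hR64 : 64 ∣ Nat.card ↥(R : Subgroup ↥N) := by
    have h60 : Nat.card ↥(alternatingGroup (Fin 5)) = 60 := by
      rw [nat_card_alternatingGroup, Nat.card_eq_fintype_card, Fintype.card_fin]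
      rfl
    have h1 := π.ker.card_mul_index
    rw [index_ker, MonoidHom.range_eq_top.2 p.surj, card_top, h60] at h1
    have h2 : 16 ∣ Nat.card π.ker := by
      rw [← h.card16, ← Nat.card_congr (subgroupOfEquivOfLe h.le).toEquiv, p.ker]
      exact card_dvd_of_le le_sup_left
    have h3 : 64 ∣ Nat.card ↥N := h1 ▸ Dvd.dvd.trans (by norm_num) (Nat.mul_dvd_mul h2 (dvd_refl 60))
    exact R.pow_dvd_card_of_pow_dvd_card (n := 6) (by norm_num; exact h3)
  have hS64 : Nat.card ↥(S : Subgroup G) = 64 := by rw [Sylow.card_eq_multiplicity, ← Sylow.card_eq_multiplicity S₀, hS0]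
  have hRS : (R : Subgroup ↥N).map N.subtype = S := eq_of_le_of_card_ge hS (by
    rw [hS64, card_map_of_injective N.subtype_injective]
    exact Nat.le_of_dvd Nat.card_pos hR64)
  refine ⟨S, hRS ▸ map_subtype_le _, fun a ha => hRS ▸ ⟨⟨a, h.le ha⟩, hR ha, rfl⟩, hS64, ?_⟩
  obtain ⟨g, hg⟩ := MulAction.exists_smul_eq G S S₀
  obtain ⟨x, y, z, hxyz⟩ := exists_triple P ((Sylow.equiv S S₀).trans e)
  exact ⟨x, x.2, y, y.2, z, z.2, fun e1 => hxyz (Subtype.ext e1)⟩

/-- A four-subgroup of a group isomorphic to `A₅` is abelian, so the triple commutators act. -/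
theorem exists_moved : ∃ n : G, ∃ hn : n ∈ N, ∃ a ∈ A, n * a * n⁻¹ ≠ a ∧ π ⟨n, hn⟩ ≠ 1 := by
  haveI : Fact (Nat.Prime 2) := ⟨Nat.prime_two⟩
  obtain ⟨S, hSN, -, -, x, hx, y, hy, z, hz, hne⟩ := p.exists_sylow h
  have hSπ : IsPGroup 2 (((S : Subgroup G).subgroupOf N).map π) :=
    (S.isPGroup'.comap_of_injective N.subtype N.subtype_injective).map π
  have hc : π ⟨x * y * x⁻¹ * y⁻¹, mul_mem (mul_mem (mul_mem (hSN hx) (hSN hy)) (inv_mem (hSN hx)))
      (inv_mem (hSN hy))⟩ = 1 := by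
    have h60 : Nat.card ↥(alternatingGroup (Fin 5)) = 60 := by
      rw [nat_card_alternatingGroup, Nat.card_eq_fintype_card, Fintype.card_fin]
      rfl
    set T := ((S : Subgroup G).subgroupOf N).map π
    obtain ⟨k, hk⟩ := IsPGroup.iff_card.1 hSπ
    have hd : 2 ^ k ∣ 60 := hk ▸ h60 ▸ T.card_subgroup_dvd_card
    have hk2 : k ≤ 2 := by
      by_contra hc
      have : 2 ^ 3 ∣ 60 := (pow_dvd_pow 2 (by omega : 3 ≤ k)).trans hd
      norm_num at this
    haveI : IsMulCommutative T := by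
      rcases (by omega : k = 0 ∨ k = 1 ∨ k = 2) with rfl | rfl | rfl
      · exact ⟨⟨fun a b => by
          haveI := (Nat.card_eq_one_iff_unique.1 (hk.trans (pow_zero 2))).1
          exact Subsingleton.elim _ _⟩⟩
      · haveI : IsCyclic T := isCyclic_of_prime_card (hk.trans (pow_one 2))
        exact IsCyclic.commutative
      · exact ⟨⟨IsPGroup.commutative_of_card_eq_prime_sq (p := 2) hk⟩⟩
    have hcm : (⟨π ⟨x, hSN hx⟩, _, hx, rfl⟩ : T) * ⟨π ⟨y, hSN hy⟩, _, hy, rfl⟩ =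
        ⟨π ⟨y, hSN hy⟩, _, hy, rfl⟩ * ⟨π ⟨x, hSN hx⟩, _, hx, rfl⟩ := mul_comm' _ _
    have hcm' : π ⟨x, hSN hx⟩ * π ⟨y, hSN hy⟩ = π ⟨y, hSN hy⟩ * π ⟨x, hSN hx⟩ := congrArg Subtype.val hcm
    show π (⟨x, hSN hx⟩ * ⟨y, hSN hy⟩ * ⟨x, hSN hx⟩⁻¹ * ⟨y, hSN hy⟩⁻¹) = 1
    rw [map_mul, map_mul, map_mul, hcm', map_inv, map_inv]
    group
  by_contra hall
  push Not at hall
  set c := x * y * x⁻¹ * y⁻¹
  have hcA : c ∈ A := by
    obtain ⟨a, ha, o, ho, e⟩ := (p.apply_eq_one_iff h _).1 hc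
    have hcS : c ∈ (S : Subgroup G) :=
      mul_mem (mul_mem (mul_mem hx hy) (inv_mem hx)) (inv_mem hy)
    obtain ⟨k, hk⟩ := IsPGroup.iff_orderOf.1 S.isPGroup' ⟨c, hcS⟩
    rw [orderOf_mk] at hk
    have hod := (PNil.coreOf_odd N).of_dvd_nat (Subgroup.orderOf_dvd_natCard _ ho)
    have hcm : Commute a o := (h.coreOf_commute ho ha).symm
    have h1 : o ^ (2 * orderOf c) = 1 := by
      have h2 : (a * o) ^ (2 * orderOf c) = 1 := by
        rw [← e, mul_comm, pow_mul, pow_orderOf_eq_one, one_pow]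
      rwa [hcm.mul_pow, pow_mul a, pow_two, h.sq a ha, one_pow, one_mul] at h2
    have ho1 : o = 1 := orderOf_eq_one_iff.1 (Nat.eq_one_of_dvd_coprimes
      ((Nat.coprime_two_left.2 hod).mul_left ((Nat.coprime_two_left.2 hod).pow_left k) )
      (hk ▸ orderOf_dvd_of_pow_eq_one h1) dvd_rfl)
    rw [show c = a * o from e, ho1, mul_one]
    exact ha
  by_cases hπ : π ⟨z, hSN hz⟩ = 1
  · exact hne (by rw [← (p.commute_of_apply_eq_one h _ hπ hcA).eq]; group)
  · have h1 : z * c * z⁻¹ = c := by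
      by_contra hne'
      exact hπ (hall z (hSN hz) c hcA hne')
    exact hne (by
      have e : c * z = z * c := (mul_inv_eq_iff_eq_mul.1 h1).symm
      rw [e]; group)

/-- `N` acts faithfully modulo the kernel. -/
theorem apply_eq_one_of_centralizes {n : G} (hn : n ∈ N) (hc : ∀ a ∈ A, n * a * n⁻¹ = a) :
    π ⟨n, hn⟩ = 1 := by
  let K : Subgroup ↥(alternatingGroup (Fin 5)) :=
    ((centralizer (A : Set G)).subgroupOf N).map π
  haveI : ((centralizer (A : Set G)).subgroupOf N).Normal := by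
    refine ⟨fun c hc m => mem_centralizer_iff.2 fun a ha => ?_⟩
    have h1 : (m : G)⁻¹ * a * ((m : G)⁻¹)⁻¹ * c = (c : G) * ((m : G)⁻¹ * a * ((m : G)⁻¹)⁻¹) :=
      mem_centralizer_iff.1 hc _ (h.conj_mem (inv_mem m.2) ha)
    show a * ((m : G) * c * (m : G)⁻¹) = (m : G) * c * (m : G)⁻¹ * a
    calc a * ((m : G) * c * (m : G)⁻¹)
        = m * (((m : G)⁻¹ * a * ((m : G)⁻¹)⁻¹) * c) * (m : G)⁻¹ := by group
      _ = m * ((c : G) * ((m : G)⁻¹ * a * ((m : G)⁻¹)⁻¹)) * (m : G)⁻¹ := by rw [h1]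
      _ = (m : G) * c * (m : G)⁻¹ * a := by group
  haveI hK : K.Normal := Subgroup.Normal.map inferInstance π p.surj
  haveI : IsSimpleGroup ↥(alternatingGroup (Fin 5)) := alternatingGroup.isSimpleGroup (by simp)
  have hn' : π ⟨n, hn⟩ ∈ K := ⟨⟨n, hn⟩, mem_centralizer_iff.2 fun a ha =>
    (mul_inv_eq_iff_eq_mul.1 (hc a ha)).symm, rfl⟩
  rcases IsSimpleGroup.eq_bot_or_eq_top_of_normal K hK with e | e
  · rwa [e, mem_bot] at hn'
  · exfalso
    obtain ⟨m, hm, a, ha, hma, -⟩ := p.exists_moved h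
    obtain ⟨c, hcc, ec⟩ := e.ge (mem_top (π ⟨m, hm⟩))
    have h1 := p.conj_eq h c.2 hm ec ha
    exact hma (h1 ▸ (mul_inv_eq_iff_eq_mul.2 (mem_centralizer_iff.1 hcc a ha).symm))

omit p in
/-- The centralizer of `A` has odd elements only in the odd core of `N`. -/
theorem centA (p : Proj A N π) {c : G} (hc : c ∈ centralizer (A : Set G)) (hodd : Odd (orderOf c)) :
    c ∈ PNil.coreOf N := by
  have hn := h.centralizer_le hc
  obtain ⟨a, ha, o, ho, e⟩ := (p.apply_eq_one_iff h hn).1 (p.apply_eq_one_of_centralizes h hn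
    fun b hb => mul_inv_eq_iff_eq_mul.2 (mem_centralizer_iff.1 hc b hb).symm)
  have hcm : Commute a o := (h.coreOf_commute ho ha).symm
  have hod := (PNil.coreOf_odd N).of_dvd_nat (Subgroup.orderOf_dvd_natCard _ ho)
  have h1 : a ^ (orderOf c * orderOf o) = 1 := by
    have h2 : (a * o) ^ (orderOf c * orderOf o) = 1 := by
      rw [← e, pow_mul, pow_orderOf_eq_one, one_pow]
    rwa [hcm.mul_pow, mul_comm (orderOf c) (orderOf o), pow_mul o, pow_orderOf_eq_one, one_pow,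
      mul_one, mul_comm] at h2
  have ha1 : a = 1 := orderOf_eq_one_iff.1 (Nat.eq_one_of_dvd_coprimes
    (Nat.coprime_two_left.2 (hodd.mul hod))
    (orderOf_dvd_of_pow_eq_one (by rw [pow_two]; exact h.sq a ha)) (orderOf_dvd_of_pow_eq_one h1))
  rw [e, ha1, one_mul]
  exact ho

/-- An element acting as a five-cycle fixes only the identity of `A`. -/
theorem five_fixes {n : G} (hn : n ∈ N) (h5 : π ⟨n, hn⟩ ^ 5 = 1) (h1 : π ⟨n, hn⟩ ≠ 1) {a : G}
    (ha : a ∈ A) (hfix : n * a * n⁻¹ = a) : a = 1 := by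
  haveI : Fact (Nat.Prime 5) := ⟨by norm_num⟩
  haveI : Fact (Nat.Prime 2) := ⟨Nat.prime_two⟩
  let φ : MulAut A := normalizerMonoidHom A ⟨n, h.norm ▸ hn⟩
  have hφ : ∀ b : A, ((φ b : A) : G) = n * b * n⁻¹ := fun b => rfl
  have hpow : ∀ (k : ℕ) (b : A), (((φ ^ k) b : A) : G) = n ^ k * b * (n ^ k)⁻¹ := by
    intro k b
    show (((normalizerMonoidHom A ⟨n, h.norm ▸ hn⟩ ^ k) b : A) : G) = _
    rw [← map_pow]
    rfl
  have hφ5 : φ ^ 5 = 1 := by
    ext b
    rw [hpow]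
    exact mul_inv_eq_iff_eq_mul.2 (p.commute_of_apply_eq_one h (pow_mem hn 5)
      (by rw [show (⟨n ^ 5, pow_mem hn 5⟩ : N) = ⟨n, hn⟩ ^ 5 from rfl, map_pow, h5]) b.2).eq
  have hgrp : IsPGroup 5 (zpowers φ) := by
    intro g
    refine ⟨1, Subtype.ext ?_⟩
    obtain ⟨k, hk⟩ := g.2
    rw [pow_one, SubmonoidClass.coe_pow, OneMemClass.coe_one, ← hk, ← zpow_natCast,
      zpow_comm, zpow_natCast, hφ5, one_zpow]
  let F : Subgroup A :=
    { carrier := {b | φ b = b}
      one_mem' := map_one φ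
      mul_mem' := fun {b c} (hb : φ b = b) (hc : φ c = c) => by
        show φ (b * c) = b * c
        rw [map_mul, hb, hc]
      inv_mem' := fun {b} (hb : φ b = b) => by
        show φ b⁻¹ = b⁻¹
        rw [map_inv, hb] }
  have hfp : Nat.card ↥(MulAction.fixedPoints (zpowers φ) A) = Nat.card F := by
    refine Nat.card_congr (Equiv.subtypeEquivRight fun b => ?_)
    constructor
    · exact fun hb => hb ⟨φ, mem_zpowers φ⟩
    · rintro (hb : φ b = b) ⟨g, k, rfl⟩
      show (φ ^ k) b = b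
      exact (MulAction.mem_stabilizer_iff.1 (zpow_mem
        (MulAction.mem_stabilizer_iff.2 hb : φ ∈ MulAction.stabilizer (MulAut A) b) k))
  have hmod := hgrp.card_modEq_card_fixedPoints A
  rw [hfp, h.card16] at hmod
  obtain ⟨j, hj⟩ := IsPGroup.iff_card.1 ((isPGroup_of_sq h.sq).to_subgroup F)
  have hj4 : 2 ^ j ∣ 16 := hj ▸ h.card16 ▸ F.card_subgroup_dvd_card
  have hj4' : j ≤ 4 := (Nat.pow_dvd_pow_iff_le_right (by norm_num : 1 < 2)).1 (hj4 : 2 ^ j ∣ 2 ^ 4)
  rw [hj] at hmod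
  have hjc : j = 0 ∨ j = 4 := by
    unfold Nat.ModEq at hmod
    interval_cases j <;> simp_all
  rcases hjc with rfl | rfl
  · have hF := eq_bot_of_card_eq F (hj.trans (pow_zero 2))
    have : (⟨a, ha⟩ : A) ∈ F := Subtype.ext hfix
    rw [hF, mem_bot] at this
    exact congrArg Subtype.val this
  · exfalso
    have hF : F = ⊤ := eq_top_of_card_eq F (by rw [hj, h.card16]; norm_num)
    exact h1 (p.apply_eq_one_of_centralizes h hn fun b hb =>
      congrArg Subtype.val (hF.ge (mem_top (⟨b, hb⟩ : A)) : φ ⟨b, hb⟩ = ⟨b, hb⟩))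

/-- The elements of `A` commuting with `n`. -/
theorem card_inf_centralizer {n : G} (hn : n ∈ N) (h2 : π ⟨n, hn⟩ * π ⟨n, hn⟩ = 1)
    (h1 : π ⟨n, hn⟩ ≠ 1) :
    Nat.card (A ⊓ centralizer ({n} : Set G) : Subgroup G) = 4 ∧
      ∀ a ∈ A ⊓ centralizer ({n} : Set G), ∃ b ∈ A, a = b * (n * b * n⁻¹) := by
  have key : ∀ m : G, ∀ hm : m ∈ N, π ⟨m, hm⟩ * π ⟨m, hm⟩ = 1 →
      Nat.card (A ⊓ centralizer ({m} : Set G) : Subgroup G) ≤ 4 →
      Nat.card (A ⊓ centralizer ({m} : Set G) : Subgroup G) = 4 ∧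
        ∀ a ∈ A ⊓ centralizer ({m} : Set G), ∃ b ∈ A, a = b * (m * b * m⁻¹) := by
    intro m hm hm2 hle
    set C := A ⊓ centralizer ({m} : Set G)
    let f : A →* A := MonoidHom.mk' (fun a => ⟨(a : G) * (m * a * m⁻¹), mul_mem a.2 (h.conj_mem hm a.2)⟩)
      fun a b => Subtype.ext (by
        show (a : G) * b * (m * ((a : G) * b) * m⁻¹) = (a : G) * (m * a * m⁻¹) * ((b : G) * (m * b * m⁻¹))
        rw [(commute_of_sq h.sq b.2 (h.conj_mem hm a.2)).symm.mul_mul_mul_comm]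
        group)
    have hrange : f.range.map A.subtype ≤ C := by
      rintro _ ⟨_, ⟨a, rfl⟩, rfl⟩
      refine ⟨(f a).2, mem_centralizer_of_commute ?_⟩
      show Commute ((a : G) * (m * a * m⁻¹)) m
      have hmm : m * (m * a * m⁻¹) * m⁻¹ = a := by
        have := p.conj_eq h (mul_mem hm hm) (one_mem N)
          (by rw [show (⟨m * m, mul_mem hm hm⟩ : N) = ⟨m, hm⟩ * ⟨m, hm⟩ from rfl, map_mul, hm2]
              exact (map_one π).symm) a.2
        rw [one_mul, inv_one, mul_one] at this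
        calc m * (m * a * m⁻¹) * m⁻¹ = m * m * a * (m * m)⁻¹ := by group
          _ = a := this
      refine (Commute.symm ?_)
      rw [Invol.commute_iff_conj_eq, show m * ((a : G) * (m * a * m⁻¹)) * m⁻¹ =
        (m * a * m⁻¹) * (m * (m * a * m⁻¹) * m⁻¹) by group, hmm,
        (commute_of_sq h.sq (h.conj_mem hm a.2) a.2).eq]
    have hker : f.ker.map A.subtype ≤ C := by
      rintro _ ⟨a, ha, rfl⟩
      refine ⟨a.2, mem_centralizer_of_commute (Commute.symm ?_)⟩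
      have ha' : (a : G) * (m * a * m⁻¹) = 1 := congrArg Subtype.val (MonoidHom.mem_ker.1 ha)
      rw [Invol.commute_iff_conj_eq]
      show m * (a : G) * m⁻¹ = a
      rw [eq_inv_of_mul_eq_one_right ha', inv_eq_of_mul_eq_one_right (h.sq _ a.2)]
    have hmul : Nat.card f.range * Nat.card f.ker = 16 := by
      rw [← index_ker, index_mul_card, h.card16]
    have hr : Nat.card f.range ≤ Nat.card C := by
      rw [← card_map_of_injective A.subtype_injective]
      exact Nat.le_of_dvd Nat.card_pos (card_dvd_of_le hrange)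
    have hk : Nat.card f.ker ≤ Nat.card C := by
      rw [← card_map_of_injective A.subtype_injective]
      exact Nat.le_of_dvd Nat.card_pos (card_dvd_of_le hker)
    have hC : Nat.card C = 4 := by nlinarith
    refine ⟨hC, ?_⟩
    have he : f.range.map A.subtype = C := eq_of_le_of_card_ge hrange (by
      rw [card_map_of_injective A.subtype_injective, hC]
      nlinarith)
    intro a ha
    rw [← he] at ha
    obtain ⟨_, ⟨b, rfl⟩, rfl⟩ := ha
    exact ⟨b, b.2, rfl⟩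
  refine key n hn h2 ?_
  have hsg := Equiv.Perm.mem_alternatingGroup.1 (π ⟨n, hn⟩).2
  obtain ⟨u, hu1, hu2, hu3, hu5, hu6⟩ := partner _ hsg (congrArg Subtype.val h2)
    (fun e => h1 (coe_eq_one.2 e))
  obtain ⟨σ, hσ1, hσ⟩ := conj_five _ hsg (congrArg Subtype.val h2) (fun e => h1 (coe_eq_one.2 e))
    u hu1 hu2 hu3
  obtain ⟨⟨k, hk⟩, hkσ⟩ := p.surj ⟨σ, Equiv.Perm.mem_alternatingGroup.2 hσ1⟩
  set n' := k * n * k⁻¹
  have hn' : n' ∈ N := mul_mem (mul_mem hk hn) (inv_mem hk)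
  set C := A ⊓ centralizer ({n} : Set G)
  set C' := A ⊓ centralizer ({n'} : Set G)
  have hCC : Nat.card C' = Nat.card C := by
    have : C.map (MulAut.conj k).toMonoidHom = C' := by
      ext x
      rw [Invol.mem_conjMap]
      constructor
      · intro hx
        refine ⟨?_, mem_centralizer_of_commute ?_⟩
        · simpa [mul_assoc] using h.conj_mem hk hx.1
        · have := (commute_of_mem_centralizer hx.2).map (MulAut.conj k).toMonoidHom
          simpa [n', mul_assoc] using this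
      · intro hx
        refine ⟨?_, mem_centralizer_of_commute ?_⟩
        · simpa [mul_assoc] using h.conj_mem (inv_mem hk) hx.1
        · have := (commute_of_mem_centralizer hx.2).map (MulAut.conj k⁻¹).toMonoidHom
          simpa [n', mul_assoc] using this
    rw [← this, card_map_of_injective (MulAut.conj k).injective]
  have hbot : C ⊓ C' = ⊥ := by
    rw [eq_bot_iff]
    rintro x ⟨hx, hx'⟩
    rw [mem_bot]
    have e : (π ⟨n * n', mul_mem hn hn'⟩ : Equiv.Perm (Fin 5)) = (π ⟨n, hn⟩ : Equiv.Perm (Fin 5)) * u := by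
      rw [show (⟨n * n', mul_mem hn hn'⟩ : N) = ⟨n, hn⟩ * (⟨k, hk⟩ * ⟨n, hn⟩ * ⟨k, hk⟩⁻¹) from rfl,
        map_mul, map_mul, map_mul, map_inv, hkσ, ← hσ]
      rfl
    refine p.five_fixes h (mul_mem hn hn') (Subtype.ext ?_) (fun e' => hu6 ?_) hx.1 ?_
    · rw [SubmonoidClass.coe_pow, e, hu5]; rfl
    · rw [← e, e']; rfl
    · exact mul_inv_eq_iff_eq_mul.2 (((commute_of_mem_centralizer hx.2).mul_right
        (commute_of_mem_centralizer hx'.2)).symm.eq)
  have hcard : Nat.card C * Nat.card C' ≤ 16 := by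
    have hinj : Function.Injective (fun z : C × C' =>
        (⟨(z.1 : G) * z.2, mul_mem z.1.2.1 z.2.2.1⟩ : A)) := by
      rintro ⟨c₁, d₁⟩ ⟨c₂, d₂⟩ e
      have e' : (c₁ : G) * d₁ = c₂ * d₂ := congrArg Subtype.val e
      have h3 : ((c₂ : G))⁻¹ * c₁ = (d₂ : G) * (d₁ : G)⁻¹ := by
        rw [eq_mul_inv_iff_mul_eq, mul_assoc, e', inv_mul_cancel_left]
      have h4 : ((c₂ : G))⁻¹ * c₁ ∈ C ⊓ C' :=
        mem_inf.2 ⟨C.mul_mem (C.inv_mem c₂.2) c₁.2, h3 ▸ C'.mul_mem d₂.2 (C'.inv_mem d₁.2)⟩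
      rw [hbot, mem_bot] at h4
      have h5 : (c₂ : G) = c₁ := inv_mul_eq_one.1 h4
      refine Prod.ext (Subtype.ext h5.symm) (Subtype.ext ?_)
      rw [h5] at e'
      exact mul_left_cancel e'
    rw [← Nat.card_prod, ← h.card16]
    exact Nat.card_le_card_of_injective _ hinj
  rw [hCC] at hcard
  nlinarith

end Proj

end Cfsg.Lib.EightThree
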